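import Groth.Agent.LARest12.Coeff
import Groth.Agent.S3471

/-!
# Explicit local acyclicity gives acyclicity of the maps of strict localizations
-/

set_option autoImplicit false
set_option linter.style.haveILetI false
set_option backward.isDefEq.respectTransparency false
set_option backward.isDefEq.respectTransparency.types false

universe u

open CategoryTheory CategoryTheory.Limits AlgebraicGeometry Opposite IsLocalRing TensorProduct

namespace Groth.Agent.LARest12

open Groth.Agent

/-- An integer is invertible at a point iff it is at its image. -/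
theorem natCast_eq_zero_iff {A B : Scheme.{u}} (g : A ⟶ B) (a : A) (n : ℕ) :
    (n : A.residueField a) = 0 ↔ (n : B.residueField (g a)) = 0 := by
  rw [← (g.residueFieldMap a).hom.injective.eq_iff, map_natCast, map_zero]

/-- An integer invertible at the closed point of a strict localization is invertible everywhere on it. -/
theorem natCast_ne_zero_specLocal (R : Type u) [CommRing R] [IsLocalRing R] {n : ℕ}
    (h : (n : ResidueField R) ≠ 0) (t : Spec (CommRingCat.of R)) :
    (n : (Spec (CommRingCat.of R)).residueField t) ≠ 0 := by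
  have hu : IsUnit (n : R) := by
    rw [← not_not (a := IsUnit (n : R)), ← mem_nonunits_iff, ← mem_maximalIdeal, ← residue_eq_zero_iff, map_natCast]
    exact h
  let z : CommRingCat.of R ⟶ (Spec (CommRingCat.of R)).residueField t :=
    (Scheme.ΓSpecIso (CommRingCat.of R)).inv ≫ (Spec (CommRingCat.of R)).presheaf.germ ⊤ t trivial ≫
      (Spec (CommRingCat.of R)).residue t
  exact (map_natCast z.hom n) ▸ (hu.map z.hom).ne_zero

variable {X S : Scheme.{u}} {f : X ⟶ S}

/-- The residue characteristic of a strict localization. -/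
theorem natCast_residue_ne_zero (x : X) (RX : Type u) [CommRing RX] [IsLocalRing RX]
    [Algebra (X.presheaf.stalk x) RX] [IsLocalHom (algebraMap (X.presheaf.stalk x) RX)] {n : ℕ}
    (h : (n : X.residueField x) ≠ 0) : (n : ResidueField RX) ≠ 0 := fun h0 => h <| by
  refine (ResidueField.map (algebraMap (X.presheaf.stalk x) RX)).injective ?_
  exact (map_natCast (ResidueField.map (algebraMap (X.presheaf.stalk x) RX)) n).trans (h0.trans (map_zero _).symm)

variable (hf : EtRest.IsLocallyAcyclic f)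

include hf in
/-- Geometric fibres of the maps of strict localizations. -/
theorem geomFibres_of_rest (x : X) (RY RX : Type u) [CommRing RY] [CommRing RX] [IsLocalRing RY] [IsLocalRing RX]
    [Algebra (S.presheaf.stalk (f.base x)) RY] [IsLocalHom (algebraMap (S.presheaf.stalk (f.base x)) RY)]
    [Hensel.IsStrictHenselization (S.presheaf.stalk (f.base x)) RY]
    [Algebra (X.presheaf.stalk x) RX] [IsLocalHom (algebraMap (X.presheaf.stalk x) RX)]
    [Hensel.IsStrictHenselization (X.presheaf.stalk x) RX]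
    [Algebra RY RX] [IsLocalHom (algebraMap RY RX)]
    (hc : (algebraMap RY RX).comp (algebraMap (S.presheaf.stalk (f.base x)) RY) =
      (algebraMap (X.presheaf.stalk x) RX).comp (f.stalkMap x).hom)
    (L : Set ℕ) (hL : ∃ ℓ ∈ L, ℓ.Prime) (hinv : ∀ ℓ ∈ L, ℓ.Prime → (ℓ : X.residueField x) ≠ 0) (k : ℕ) :
    EtAcyc.GeomFibresAcyclicN L k (Spec.map (CommRingCat.ofHom (algebraMap RY RX))) := by
  intro y Ω _ _ _ _
  let τ : RY →+* Ω := (Spec.preimage (EtAcyc.geomPt (Spec (CommRingCat.of RY)) y Ω)).hom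
  letI : Algebra RY Ω := τ.toAlgebra
  have hτ : Spec.map (CommRingCat.ofHom (algebraMap RY Ω)) = EtAcyc.geomPt (Spec (CommRingCat.of RY)) y Ω :=
    Spec.map_preimage _
  exact AcycCover.isAcyclicSchemeN_of_iso (pullback.congrHom rfl hτ.symm ≪≫ pullbackSpecIso RY RX Ω)
    (isAcyclicSchemeN_of_primes L hL (fun ℓ hℓ hp => hf x RY RX hc Ω ℓ (hinv ℓ hℓ hp)) k)

include hf in
/-- The maps of strict localizations are acyclic for the primes invertible at the point. -/
theorem isAcyclicN_of_rest (x : X) (RY RX : Type u) [CommRing RY] [CommRing RX] [IsLocalRing RY] [IsLocalRing RX]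
    [Algebra (S.presheaf.stalk (f.base x)) RY] [IsLocalHom (algebraMap (S.presheaf.stalk (f.base x)) RY)]
    [Hensel.IsStrictHenselization (S.presheaf.stalk (f.base x)) RY]
    [Algebra (X.presheaf.stalk x) RX] [IsLocalHom (algebraMap (X.presheaf.stalk x) RX)]
    [Hensel.IsStrictHenselization (X.presheaf.stalk x) RX]
    [Algebra RY RX] [IsLocalHom (algebraMap RY RX)]
    (hc : (algebraMap RY RX).comp (algebraMap (S.presheaf.stalk (f.base x)) RY) =
      (algebraMap (X.presheaf.stalk x) RX).comp (f.stalkMap x).hom)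
    (L : Set ℕ) (hL : ∃ ℓ ∈ L, ℓ.Prime) (hinv : ∀ ℓ ∈ L, ℓ.Prime → (ℓ : X.residueField x) ≠ 0) (k : ℕ) :
    EtAcyc.IsAcyclicN (Spec.map (CommRingCat.ofHom (algebraMap RY RX))) L k := by
  let h := Spec.map (CommRingCat.ofHom (algebraMap RY RX))
  let Q : ℕ → ∀ ⦃X' Y' : Scheme.{u}⦄, (X' ⟶ Y') → Prop := fun m X' _ g =>
    (∀ ℓ ∈ L, ℓ.Prime → ∀ t : X', (ℓ : X'.residueField t) ≠ 0) → EtAcyc.GeomFibresAcyclicN L m g
  have hQ : ∀ m, EtAcyc.OnStrictLocalizations f (Q m) := by
    intro m x' RY' RX' _ _ _ _ _ _ _ _ _ _ _ _ hc' hi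
    refine geomFibres_of_rest hf x' RY' RX' hc' L hL (fun ℓ hℓ hp h0 => ?_) m
    have e : Hens2.specOf X x' RX' (closedPoint RX') = x' :=
      UnitStalk.specMap_closed x' (algebraMap (X.presheaf.stalk x') RX')
    rw [← e] at h0
    exact hi ℓ hℓ hp (closedPoint RX') ((natCast_eq_zero_iff (Hens2.specOf X x' RX') (closedPoint RX') ℓ).2 h0)
  have hρ := (IndEtStrict.isChart_specOf_comp (𝟙 S) (f.base x) RY).transfers
  have ha := (IndEtStrict.isChart_specOf_comp (𝟙 X) x RX).transfers
  have w : (Hens2.specOf X x RX ≫ 𝟙 X) ≫ f = h ≫ Hens2.specOf S (f.base x) RY ≫ 𝟙 S := by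
    rw [Category.comp_id, Category.comp_id]
    exact (EtBC.specOf_map x RY RX (algebraMap RY RX) hc).symm
  have hh : ∀ m, EtAcyc.OnStrictLocalizations h (fun _ _ g => EtAcyc.GeomFibresAcyclicN L m g) := by
    intro m t RY' RX' _ _ _ _ _ _ _ _ _ _ _ _ hc'
    refine AcycCover.onStrictLocalizations_square hρ ha w (hQ m) t RY' RX' hc' fun ℓ hℓ hp t' h0 => ?_
    exact natCast_ne_zero_specLocal RX (natCast_residue_ne_zero x RX (hinv ℓ hℓ hp))
      (Hens2.specOf _ t RX' t') ((natCast_eq_zero_iff (Hens2.specOf _ t RX') t' ℓ).1 h0)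
  refine AcycCover.isAcyclicN_of_fibres h L k (geomFibres_of_rest hf x RY RX hc L hL hinv k) ?_
    fun m _ => (S3471.result h L hL m).2 (hh m)
  intro t RY' RX' _ _ _ _ _ _ _ _ _ _ _ _ hc'
  exact AcycCover.surjective_of_geomFibres (hh k t RY' RX' hc')

include hf in
/-- Explicit local acyclicity gives local acyclicity for sets of primes invertible on the source. -/
theorem isLocAcyclicN_of_rest (L : Set ℕ) (hL : ∃ ℓ ∈ L, ℓ.Prime)
    (hinv : ∀ ℓ ∈ L, ℓ.Prime → ∀ x : X, (ℓ : X.residueField x) ≠ 0) (k : ℕ) :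
    EtAcyc.IsLocAcyclicN f L k := fun x RY RX _ _ _ _ _ _ _ _ _ _ _ _ hc =>
  isAcyclicN_of_rest hf x RY RX hc L hL (fun ℓ hℓ hp => hinv ℓ hℓ hp x) k

end Groth.Agent.LARest12
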