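import Groth.Agent.LARest12.VcIso
import Groth.Agent.AcycCover.Fibres
import Mathlib.Data.ZMod.Basic

/-!
# Schemes with the `ℤ/n`-cohomology of a point
-/

set_option autoImplicit false
set_option linter.style.haveILetI false
set_option backward.isDefEq.respectTransparency false
set_option backward.isDefEq.respectTransparency.types false

universe u

open CategoryTheory CategoryTheory.Limits AlgebraicGeometry Opposite

namespace Groth.Agent.LARest12

open Groth.Agent.EtFound Groth.Agent.EtLimit Groth.Agent.EtBC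

variable {U : Scheme.{u}} {n : ℕ}

/-- A scheme with `H⁰(ℤ/n) ≅ ℤ/n`, `n ≥ 2`, is nonempty and connected. -/
theorem nonempty_connected_of_H0 (hn : 2 ≤ n) (h : Nonempty (EtCoh.H U (EtCoh.const U (ZMod n)) 0 ≃+ ZMod n)) :
    Nonempty U ∧ ConnectedSpace U := by
  obtain ⟨e⟩ := h
  haveI : NeZero n := ⟨by omega⟩
  haveI : Fact (1 < n) := ⟨by omega⟩
  let M' : AddCommGrpCat.{u + 1} := AddCommGrpCat.of (ULift.{u + 1} (ZMod n))
  haveI : Finite M' := inferInstanceAs (Finite (ULift.{u + 1} (ZMod n)))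
  haveI : Nontrivial M' := inferInstanceAs (Nontrivial (ULift.{u + 1} (ZMod n)))
  let E : M' ≃ (sheafify U.smallEtaleTopology ((Functor.const U.Etaleᵒᵖ).obj M')).obj (op (EtCoh.top U)) :=
    (Equiv.ulift.trans e.symm.toEquiv).trans (Equiv.ofBijective _ (hSec_bijective (EtCoh.const U (ZMod n))))
  haveI hne : Nonempty U := by
    by_contra hX
    haveI : IsEmpty U := not_nonempty_iff.1 hX
    haveI : IsEmpty (EtCoh.top U).left := ‹IsEmpty U›
    exact not_subsingleton M' (@Equiv.subsingleton _ _ E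
      (subsingleton_sections_of_isEmpty (EtCoh.const U (ZMod n)) (EtCoh.top U)))
  refine ⟨hne, FibreAcyc.connectedSpace_of_surjective M' fun s => ?_⟩
  obtain ⟨m, hm⟩ := (Finite.injective_iff_surjective.1
    (E.symm.injective.comp (FibreAcyc.constSec_injective M' (EtCoh.top U) hne))) (E.symm s)
  exact ⟨m, E.symm.injective hm⟩

/-- Multiplication by `e` from `ℤ/d` to `ℤ/(de)`. -/
def mulHom (d e : ℕ) : ZMod d →+ ZMod (d * e) :=
  ZMod.lift d ⟨(AddMonoidHom.mulLeft (e : ZMod (d * e))).comp (Int.castAddHom (ZMod (d * e))), by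
    show (e : ZMod (d * e)) * ((d : ℤ) : ZMod (d * e)) = 0
    rw [Int.cast_natCast, ← Nat.cast_mul, mul_comm, ZMod.natCast_self]⟩

theorem mulHom_intCast (d e : ℕ) (k : ℤ) : mulHom d e (k : ZMod d) = (e : ZMod (d * e)) * (k : ZMod (d * e)) :=
  ZMod.lift_coe _ _ _

/-- Multiplication by `e`, on lifted groups. -/
def upMul (d e : ℕ) : ULift.{u + 1} (ZMod d) →+ ULift.{u + 1} (ZMod (d * e)) :=
  AddMonoidHom.mk' (fun x => ⟨mulHom d e x.down⟩) fun a b => ULift.ext _ _ (map_add (mulHom d e) a.down b.down)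

/-- Reduction modulo `e`, on lifted groups. -/
def upMod (d e : ℕ) : ULift.{u + 1} (ZMod (d * e)) →+ ULift.{u + 1} (ZMod e) :=
  AddMonoidHom.mk' (fun x => ⟨ZMod.castHom (dvd_mul_left e d) (ZMod e) x.down⟩) fun a b =>
    ULift.ext _ _ (map_add (ZMod.castHom (dvd_mul_left e d) (ZMod e)) a.down b.down)

/-- The sequence `ℤ/d → ℤ/de → ℤ/e`. -/
noncomputable def zmodSeq (d e : ℕ) : ShortComplex AddCommGrpCat.{u + 1} :=
  ShortComplex.mk (AddCommGrpCat.ofHom (upMul.{u} d e)) (AddCommGrpCat.ofHom (upMod.{u} d e)) (by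
    refine AddCommGrpCat.hom_ext (AddMonoidHom.ext fun x => ULift.ext _ _ ?_)
    obtain ⟨k, hk⟩ := ZMod.intCast_surjective (x : ULift.{u + 1} (ZMod d)).down
    show ZMod.castHom (dvd_mul_left e d) (ZMod e) (mulHom d e (x : ULift.{u + 1} (ZMod d)).down) = 0
    rw [← hk, mulHom_intCast, map_mul, map_natCast, ZMod.natCast_self, zero_mul])

theorem shortExact_zmodSeq (d e : ℕ) (he : 0 < e) : (zmodSeq.{u} d e).ShortExact where
  exact := (ShortComplex.ab_exact_iff _).2 fun (y : ULift.{u + 1} (ZMod (d * e))) hy => by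
    obtain ⟨k, hk⟩ := ZMod.intCast_surjective y.down
    have h0 : ZMod.castHom (dvd_mul_left e d) (ZMod e) y.down = 0 :=
      congrArg (ULift.down : ULift.{u + 1} (ZMod e) → ZMod e) hy
    rw [← hk, map_intCast, ZMod.intCast_zmod_eq_zero_iff_dvd] at h0
    obtain ⟨c, rfl⟩ := h0
    refine ⟨(⟨(c : ZMod d)⟩ : ULift.{u + 1} (ZMod d)), ULift.ext _ _ ?_⟩
    show mulHom d e (c : ZMod d) = y.down
    rw [mulHom_intCast, ← hk, Int.cast_mul, Int.cast_natCast]
  mono_f := (AddCommGrpCat.mono_iff_injective _).2 fun (a b : ULift.{u + 1} (ZMod d)) h => by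
    obtain ⟨i, hi⟩ := ZMod.intCast_surjective a.down
    obtain ⟨j, hj⟩ := ZMod.intCast_surjective b.down
    have h' : mulHom d e a.down = mulHom d e b.down :=
      congrArg (ULift.down : ULift.{u + 1} (ZMod (d * e)) → ZMod (d * e)) h
    rw [← hi, ← hj, mulHom_intCast, mulHom_intCast, ← Int.cast_natCast, ← Int.cast_mul, ← Int.cast_mul,
      ZMod.intCast_eq_intCast_iff_dvd_sub, Nat.cast_mul, ← mul_sub, mul_comm (d : ℤ)] at h'
    refine ULift.ext _ _ ?_
    rw [← hi, ← hj, ZMod.intCast_eq_intCast_iff_dvd_sub]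
    exact (mul_dvd_mul_iff_left (by exact_mod_cast he.ne')).1 h'
  epi_g := (AddCommGrpCat.epi_iff_surjective _).2 fun (y : ULift.{u + 1} (ZMod e)) => by
    obtain ⟨x, hx⟩ := ZMod.castHom_surjective (dvd_mul_left e d) y.down
    exact ⟨(⟨x⟩ : ULift.{u + 1} (ZMod (d * e))), ULift.ext _ _ hx⟩

/-- On a connected scheme a surjection of constant sheaves is surjective on global classes. -/
theorem hmap_const_surjective [Nonempty U] [ConnectedSpace U] {A B : AddCommGrpCat.{u + 1}} (g : A ⟶ B)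
    (hg : Function.Surjective g) :
    Function.Surjective (hmap ((constantSheaf U.smallEtaleTopology AddCommGrpCat.{u + 1}).map g) 0) := by
  intro z
  let C := constantSheaf U.smallEtaleTopology AddCommGrpCat.{u + 1}
  obtain ⟨b, hb⟩ := AcycCover.constSec_surjective B (hSec (C.obj B) z)
  obtain ⟨a, rfl⟩ := hg b
  obtain ⟨ξ, hξ⟩ := (hSec_bijective (C.obj A)).2 (FibreAcyc.constSec A (EtCoh.top U) a)
  refine ⟨ξ, (hSec_bijective (C.obj B)).1 ?_⟩
  rw [hSec_hmap, hξ]
  refine Eq.trans ?_ hb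
  exact (ConcreteCategory.congr_hom (congrArg (fun t => t.app (op (EtCoh.top U)))
    (toSheafify_naturality U.smallEtaleTopology ((Functor.const U.Etaleᵒᵖ).map g))) a).symm

/-- The vanishing passes to the divisors of `n`. -/
theorem subsingleton_H_of_dvd (hn : 0 < n) [Nonempty U] [ConnectedSpace U]
    (h : ∀ q : ℕ, 0 < q → Subsingleton (EtCoh.H U (EtCoh.const U (ZMod n)) q)) :
    ∀ q : ℕ, 0 < q → ∀ d : ℕ, d ∣ n → Subsingleton (EtCoh.H U (EtCoh.const U (ZMod d)) q) := by
  let C := constantSheaf U.smallEtaleTopology AddCommGrpCat.{u + 1}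
  haveI : PreservesFiniteLimits C := by
    show PreservesFiniteLimits (Functor.const _ ⋙ presheafToSheaf _ _)
    infer_instance
  haveI : PreservesFiniteColimits C := by
    haveI : PreservesColimitsOfSize.{0, 0} C := (EtCore.constAdj U).leftAdjoint_preservesColimits
    exact PreservesColimitsOfSize.preservesFiniteColimits _
  haveI : C.Additive := Functor.additive_of_preserves_binary_products C
  intro q hq
  induction q with
  | zero => exact absurd hq (lt_irrefl 0)
  | succ q ih =>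
    rintro d ⟨e, rfl⟩
    have he : 0 < e := Nat.pos_of_mul_pos_left hn
    have hS := (shortExact_zmodSeq.{u} d e he).map_of_exact C
    refine subsingleton_of_forall_eq 0 fun (x : EtCoh.H U ((zmodSeq.{u} d e).map C).X₁ (q + 1)) => ?_
    obtain ⟨c, rfl⟩ := exists_hδ_of_hmap_eq_zero hS (rfl : q + 1 = q + 1) x ((h (q + 1) hq).elim _ _)
    rcases Nat.eq_zero_or_pos q with rfl | hq0
    · obtain ⟨a, rfl⟩ := hmap_const_surjective (U := U) (zmodSeq.{u} d e).g
        ((AddCommGrpCat.epi_iff_surjective _).1 (shortExact_zmodSeq.{u} d e he).epi_g) c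
      exact hδ_hmap_g hS rfl a
    · rw [(ih hq0 e (dvd_mul_left e d)).elim c 0]
      exact map_zero _

/-- A scheme with the `ℤ/n`-cohomology of a point is acyclic for the primes dividing `n`. -/
theorem isAcyclicSchemeN_of_vc (hn : 2 ≤ n) (h : VcAcyclic U n) (L : Set ℕ)
    (hL : ∀ ℓ ∈ L, ℓ.Prime → ℓ ∣ n) (k : ℕ) : EtAcyc.IsAcyclicSchemeN L k U := by
  obtain ⟨h1, h2⟩ := nonempty_connected_of_H0 hn h.2
  haveI := h1
  haveI := h2
  exact ⟨h1, h2, fun ℓ hℓ hℓL q hq _ => subsingleton_H_of_dvd (by omega) h.1 q hq ℓ (hL ℓ hℓL hℓ)⟩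

/-- A scheme whose cohomology is that of a point for every prime of `L`. -/
theorem isAcyclicSchemeN_of_primes (L : Set ℕ) (hL : ∃ ℓ ∈ L, ℓ.Prime)
    (h : ∀ ℓ ∈ L, ℓ.Prime → VcAcyclic U ℓ) (k : ℕ) : EtAcyc.IsAcyclicSchemeN L k U := by
  obtain ⟨ℓ₀, h0, hp⟩ := hL
  obtain ⟨h1, h2⟩ := nonempty_connected_of_H0 hp.two_le (h ℓ₀ h0 hp).2
  exact ⟨h1, h2, fun ℓ hℓ hℓL q hq _ => (h ℓ hℓL hℓ).1 q hq⟩

end Groth.Agent.LARest12
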