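import Groth.Agent.LARest12.Coeff
import Groth.Agent.AcycCover.Fibres
import Groth.Agent.GenAcyc.Main
import Groth.Agent.EtTrace.ConstPoint
import Groth.Agent.FibreAcyc.Main

/-!
# Acyclic fibres have the `ℤ/n`-cohomology of a point
-/

set_option autoImplicit false
set_option linter.style.haveILetI false
set_option backward.isDefEq.respectTransparency false
set_option backward.isDefEq.respectTransparency.types false

universe u

open CategoryTheory CategoryTheory.Limits AlgebraicGeometry Opposite

namespace Groth.Agent.LARest12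

open Groth.Agent.EtFound Groth.Agent.EtLimit Groth.Agent.EtBC

/-- Global classes of a constant sheaf on a point. -/
theorem nonempty_H0_point (Ω : Type u) [Field Ω] (M : Type) [AddCommGroup M] :
    Nonempty (EtCoh.H (Spec (CommRingCat.of Ω)) (EtCoh.const (Spec (CommRingCat.of Ω)) M) 0 ≃+ M) := by
  let S := Spec (CommRingCat.of Ω)
  let M' : AddCommGrpCat.{u + 1} := AddCommGrpCat.of (ULift.{u + 1} M)
  haveI : Subsingleton S := inferInstanceAs (Subsingleton (PrimeSpectrum Ω))
  haveI : Nonempty S := inferInstanceAs (Nonempty (PrimeSpectrum Ω))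
  let e1 := AddEquiv.ofBijective (FibreAcyc.constSec M' (EtCoh.top S)).hom
    ⟨FibreAcyc.constSec_injective M' (EtCoh.top S) ‹Nonempty S›, EtTrace.toSheafify_top_surjective S M'⟩
  let e2 : EtCoh.H S (EtCoh.const S M) 0 ≃+ _ :=
    AddEquiv.ofBijective (AddMonoidHom.mk' (hSec (EtCoh.const S M)) (hSec_add (EtCoh.const S M)))
      (hSec_bijective (EtCoh.const S M))
  exact ⟨(e2.trans e1.symm).trans AddEquiv.ulift⟩

/-- A scheme over a separably closed field acyclic for the primes dividing `n` has the
`ℤ/n`-cohomology of a point. -/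
theorem vcAcyclic_of_isAcyclicSchemeN {X : Scheme.{u}} [CompactSpace X] [QuasiSeparatedSpace X]
    {k : Type u} [Field k] [IsSepClosed k] (h : X ⟶ Spec (CommRingCat.of k)) (L : Set ℕ) (n : ℕ)
    (hn : EtAcyc.PrimesIn L n) (hX : ∀ j, EtAcyc.IsAcyclicSchemeN L j X) : VcAcyclic X n := by
  haveI : PreservesFiniteLimits (EtCoh.pull h) := pull_preservesFiniteLimits _
  let G := EtCoh.const (Spec (CommRingCat.of k)) (ZMod n)
  have hG : EtAcyc.IsLTorsion L G := GenAcyc.isLTorsion_const _ _ fun a => ⟨n, hn, by ext; simp⟩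
  have hgood := fun j => AcycCover.goodCoeff_of_isAcyclicScheme h L (hX j) G hG
  refine ⟨fun q hq => ?_, ?_⟩
  · haveI := (hgood q).2 q hq le_rfl
    exact (hmap_bijective_of_isIso (EtCore.pullConst h (ZMod n)).hom q).2.subsingleton
  · obtain ⟨e⟩ := nonempty_H0_point k (ZMod n)
    let φ : EtCoh.H (Spec (CommRingCat.of k)) G 0 →+ EtCoh.H X (EtCoh.const X (ZMod n)) 0 :=
      (hmap (EtCore.pullConst h (ZMod n)).hom 0).comp (EtCore.Hpull h G 0)
    exact ⟨(AddEquiv.ofBijective φ
      ((hmap_bijective_of_isIso (EtCore.pullConst h (ZMod n)).hom 0).comp (hgood 0).1)).symm.trans e⟩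

end Groth.Agent.LARest12
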