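import Groth.Agent.LARest12.Bridge
import Groth.Agent.LARest12.Fibre
import Groth.Agent.EtFound.AcyclicComp
import Groth.Agent.EtFound.LocAcyclicComp
import Groth.Agent.S8534
import Mathlib.FieldTheory.SeparableClosure

/-!
# Composition of locally acyclic morphisms
-/

set_option autoImplicit false
set_option linter.style.haveILetI false
set_option backward.isDefEq.respectTransparency false
set_option backward.isDefEq.respectTransparency.types false

universe u

open CategoryTheory CategoryTheory.Limits AlgebraicGeometry Opposite IsLocalRing TensorProduct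

namespace Groth.Agent.LARest12

open Groth.Agent.EtFound

/-- Invariance of the `ℤ/n`-cohomology of a point under extensions of separably closed fields. -/
def FieldExtInv : Prop :=
  ∀ (k K : Type u) [Field k] [IsSepClosed k] [Field K] [IsSepClosed K] [Algebra k K] (X : Scheme.{u})
    (a : X ⟶ Spec (CommRingCat.of k)) (n : ℕ), (n : k) ≠ 0 → VcAcyclic X n →
      VcAcyclic (pullback a (Spec.map (CommRingCat.ofHom (algebraMap k K)))) n

/-- The fibre of an acyclic map of strict localizations at any separably closed point. -/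
theorem vcAcyclic_tensor_of_isAcyclicN (hext : FieldExtInv.{u}) (R R' : Type u) [CommRing R] [CommRing R']
    [Algebra R R'] (L : Set ℕ) (hL : ∃ ℓ ∈ L, ℓ.Prime)
    (hA : ∀ k, EtAcyc.IsAcyclicN (Spec.map (CommRingCat.ofHom (algebraMap R R'))) L k)
    (Ω : Type u) [Field Ω] [IsSepClosed Ω] [Algebra R Ω] (n : ℕ) (hn : EtAcyc.PrimesIn L n) (hnΩ : (n : Ω) ≠ 0) :
    VcAcyclic (Spec (CommRingCat.of (R' ⊗[R] Ω))) n := by
  let T := Spec (CommRingCat.of R)
  let h := Spec.map (CommRingCat.ofHom (algebraMap R R'))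
  obtain ⟨⟨y, φ⟩, hyφ⟩ := (Scheme.SpecToEquivOfField Ω T).symm.surjective (Spec.map (CommRingCat.ofHom (algebraMap R Ω)))
  letI : Algebra (T.residueField y) Ω := φ.hom.toAlgebra
  let Ω₀ := separableClosure (T.residueField y) Ω
  haveI : IsSepClosure (T.residueField y) Ω₀ := separableClosure.isSepClosure _ _
  haveI : IsSepClosed Ω₀ := IsSepClosure.sep_closed (T.residueField y)
  haveI : Algebra.IsSeparable (T.residueField y) Ω₀ := IsSepClosure.separable
  haveI : Algebra.IsAlgebraic (T.residueField y) Ω₀ := inferInstance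
  let g₀ := EtAcyc.geomPt T y Ω₀
  have hP₀ : ∀ j, EtAcyc.IsAcyclicSchemeN L j (pullback h g₀) := fun j =>
    S8534.result h L hL j (hA j) y Ω₀
  haveI : CompactSpace ↥(pullback h g₀) := QuasiCompact.compactSpace_of_compactSpace (pullback.snd h g₀)
  haveI : QuasiSeparatedSpace ↥(pullback h g₀) := quasiSeparatedSpace_of_quasiSeparated (pullback.snd h g₀)
  have hn₀ : (n : Ω₀) ≠ 0 := fun h0 => hnΩ (by
    rw [← map_natCast (algebraMap Ω₀ Ω), h0, map_zero])
  have h1 := hext Ω₀ Ω (pullback h g₀) (pullback.snd h g₀) n hn₀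
    (vcAcyclic_of_isAcyclicSchemeN (pullback.snd h g₀) L n hn hP₀)
  have e : Spec.map (CommRingCat.ofHom (algebraMap Ω₀ Ω)) ≫ g₀ = Spec.map (CommRingCat.ofHom (algebraMap R Ω)) := by
    rw [← hyφ]
    show Spec.map (CommRingCat.ofHom (algebraMap Ω₀ Ω)) ≫ Spec.map _ ≫ T.fromSpecResidueField y = _
    rw [← Category.assoc, ← Spec.map_comp]
    rfl
  have sq := (IsPullback.of_hasPullback (pullback.snd h g₀) (Spec.map (CommRingCat.ofHom (algebraMap Ω₀ Ω)))).paste_horiz
    (IsPullback.of_hasPullback h g₀)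
  rw [e] at sq
  exact vcAcyclic_of_iso ((pullbackSpecIso R R' Ω).symm ≪≫ sq.isoPullback.symm) h1

variable {X Y Z : Scheme.{u}} {f : X ⟶ Y} {g : Y ⟶ Z}

/-- Maps of strict localizations of a composite. -/
theorem isAcyclicN_comp_of_rest (hf : EtRest.IsLocallyAcyclic f) (hg : EtRest.IsLocallyAcyclic g) (x : X)
    (RZ RX : Type u) [CommRing RZ] [CommRing RX] [IsLocalRing RZ] [IsLocalRing RX]
    [Algebra (Z.presheaf.stalk ((f ≫ g).base x)) RZ] [IsLocalHom (algebraMap (Z.presheaf.stalk ((f ≫ g).base x)) RZ)]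
    [Hensel.IsStrictHenselization (Z.presheaf.stalk ((f ≫ g).base x)) RZ]
    [Algebra (X.presheaf.stalk x) RX] [IsLocalHom (algebraMap (X.presheaf.stalk x) RX)]
    [Hensel.IsStrictHenselization (X.presheaf.stalk x) RX]
    [Algebra RZ RX] [IsLocalHom (algebraMap RZ RX)]
    (hc : (algebraMap RZ RX).comp (algebraMap (Z.presheaf.stalk ((f ≫ g).base x)) RZ) =
      (algebraMap (X.presheaf.stalk x) RX).comp ((f ≫ g).stalkMap x).hom)
    (L : Set ℕ) (hL : ∃ ℓ ∈ L, ℓ.Prime) (hinv : ∀ ℓ ∈ L, ℓ.Prime → (ℓ : X.residueField x) ≠ 0) (k : ℕ) :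
    EtAcyc.IsAcyclicN (Spec.map (CommRingCat.ofHom (algebraMap RZ RX))) L k := by
  let R₁ := Z.presheaf.stalk (g.base (f.base x))
  let R₂ := Y.presheaf.stalk (f.base x)
  letI algZ : Algebra R₁ RZ := ‹Algebra (Z.presheaf.stalk ((f ≫ g).base x)) RZ›
  haveI locZ : IsLocalHom (algebraMap R₁ RZ) := ‹IsLocalHom (algebraMap (Z.presheaf.stalk ((f ≫ g).base x)) RZ)›
  haveI strZ : Hensel.IsStrictHenselization R₁ RZ :=
    ‹Hensel.IsStrictHenselization (Z.presheaf.stalk ((f ≫ g).base x)) RZ›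
  let m : R₁ →+* R₂ := (g.stalkMap (f.base x)).hom
  let m' : R₂ →+* X.presheaf.stalk x := (f.stalkMap x).hom
  haveI : IsLocalHom m := inferInstanceAs (IsLocalHom (g.stalkMap (f.base x)).hom)
  haveI : IsLocalHom m' := inferInstanceAs (IsLocalHom (f.stalkMap x).hom)
  haveI : HenselianLocalRing RX := _root_.Hensel.IsStrictHenselization.henselian (X.presheaf.stalk x)
  let RY := Hensel.StrictHenz R₂
  obtain ⟨ψ, hψl, hψ⟩ := exists_strictMap RY RX m'
  have hφ : (algebraMap RZ RX).comp (algebraMap R₁ RZ) =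
      (algebraMap (X.presheaf.stalk x) RX).comp (m'.comp m) :=
    hc.trans (congrArg _ (stalkMap_comp_hom f g x))
  obtain ⟨χ, hχl, hχ, hψχ⟩ := exists_strictFactor RZ RY RX m m' (algebraMap RZ RX) hφ ψ hψ
  have hbX : EtAcyc.IsAcyclicN (Spec.map (CommRingCat.ofHom ψ)) L k := by
    letI := ψ.toAlgebra
    haveI : IsLocalHom (algebraMap RY RX) := hψl
    exact isAcyclicN_of_rest hf x RY RX hψ L hL hinv k
  have hbZ : EtAcyc.IsAcyclicN (Spec.map (CommRingCat.ofHom χ)) L k := by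
    letI := χ.toAlgebra
    haveI : IsLocalHom (algebraMap RZ RY) := hχl
    exact isAcyclicN_of_rest hg (f.base x) RZ RY hχ L hL
      (fun ℓ hℓ hp h0 => hinv ℓ hℓ hp ((natCast_eq_zero_iff f x ℓ).2 h0)) k
  have := (isAcyclicN_comp_iff (Spec.map (CommRingCat.ofHom ψ)) (Spec.map (CommRingCat.ofHom χ)) L k hbX).1 hbZ
  rwa [← Spec.map_comp, ← CommRingCat.ofHom_comp, hψχ] at this

/-- Composites of locally acyclic morphisms are locally acyclic. -/
theorem isLocallyAcyclic_comp (hext : FieldExtInv.{u}) (hf : EtRest.IsLocallyAcyclic f)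
    (hg : EtRest.IsLocallyAcyclic g) : EtRest.IsLocallyAcyclic (f ≫ g) := by
  intro x RZ RX _ _ _ _ _ _ _ _ _ _ _ _ hc Ω _ _ _ n hn
  have hn0 : n ≠ 0 := fun h => hn (by rw [h, Nat.cast_zero])
  obtain ⟨p₀, hp₀, hp₀'⟩ : ∃ p : ℕ, p.Prime ∧ (p : X.residueField x) ≠ 0 := by
    by_cases h2 : ((2 : ℕ) : X.residueField x) = 0
    · refine ⟨3, Nat.prime_three, fun h3 => one_ne_zero (α := X.residueField x) ?_⟩
      rwa [show (3 : ℕ) = 2 + 1 from rfl, Nat.cast_add, h2, zero_add, Nat.cast_one] at h3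
    · exact ⟨2, Nat.prime_two, h2⟩
  let L : Set ℕ := {ℓ | ℓ.Prime ∧ (ℓ : X.residueField x) ≠ 0}
  have hn' : EtAcyc.PrimesIn L n := ⟨Nat.pos_of_ne_zero hn0, fun p hp hpn => ⟨hp, fun h0 => hn (by
    obtain ⟨d, rfl⟩ := hpn
    rw [Nat.cast_mul, h0, zero_mul])⟩⟩
  have hnΩ : (n : Ω) ≠ 0 := by
    have hu : IsUnit (n : RZ) := by
      refine isUnit_of_map_unit (algebraMap RZ RX) _ ?_
      rw [map_natCast, ← not_not (a := IsUnit (n : RX)), ← mem_nonunits_iff, ← mem_maximalIdeal,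
        ← residue_eq_zero_iff, map_natCast]
      exact natCast_residue_ne_zero x RX hn
    exact (map_natCast (algebraMap RZ Ω) n) ▸ (hu.map (algebraMap RZ Ω)).ne_zero
  exact vcAcyclic_tensor_of_isAcyclicN hext RZ RX L ⟨p₀, ⟨hp₀, hp₀'⟩, hp₀⟩
    (fun k => isAcyclicN_comp_of_rest hf hg x RZ RX hc L ⟨p₀, ⟨hp₀, hp₀'⟩, hp₀⟩ (fun ℓ hℓ _ => hℓ.2) k)
    Ω n hn' hnΩ

end Groth.Agent.LARest12
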