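import Groth.Agent.LARest12.Comp
import Groth.Agent.S3478

/-!
# Invariance of the cohomology of a point under extensions of separably closed fields
-/

set_option autoImplicit false
set_option linter.style.haveILetI false
set_option backward.isDefEq.respectTransparency false
set_option backward.isDefEq.respectTransparency.types false

universe u

open CategoryTheory CategoryTheory.Limits AlgebraicGeometry Opposite

namespace Groth.Agent.LARest12

open Groth.Agent.EtFound Groth.Agent.EtLimit Groth.Agent.EtBC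

theorem fieldExtInv : FieldExtInv.{u} := by
  intro k K _ _ _ _ _ X a n hn h
  let p := pullback.fst a (Spec.map (CommRingCat.ofHom (algebraMap k K)))
  haveI : PreservesFiniteLimits (EtCoh.pull p) := pull_preservesFiniteLimits _
  have hn0 : 0 < n := Nat.pos_of_ne_zero fun h0 => hn (by rw [h0, Nat.cast_zero])
  have hF : EtAcyc.IsLTorsion {ℓ | ℓ.Prime ∧ ℓ ≠ ringChar k} (EtCoh.const X (ZMod n)) :=
    GenAcyc.isLTorsion_const _ _ fun b => ⟨n, ⟨hn0, fun ℓ hℓ hd => ⟨hℓ, fun he => hn (by
      obtain ⟨c, rfl⟩ := hd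
      rw [Nat.cast_mul, he, CharP.cast_eq_zero, zero_mul])⟩⟩, by ext; simp⟩
  have hb := fun q => (hmap_bijective_of_isIso (EtCore.pullConst p (ZMod n)).hom q).comp
    (S3478.result k K a (EtCoh.const X (ZMod n)) hF q)
  refine ⟨fun q hq => ?_, ?_⟩
  · haveI := h.1 q hq
    exact (hb q).2.subsingleton
  · obtain ⟨e⟩ := h.2
    let φ : EtCoh.H X (EtCoh.const X (ZMod n)) 0 →+ EtCoh.H _ (EtCoh.const _ (ZMod n)) 0 :=
      (hmap (EtCore.pullConst p (ZMod n)).hom 0).comp (EtCore.Hpull p (EtCoh.const X (ZMod n)) 0)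
    exact ⟨(AddEquiv.ofBijective φ (hb 0)).symm.trans e⟩

end Groth.Agent.LARest12
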