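import Groth.Agent.LARest12.VcIso
import Groth.Agent.LARest12.Coeff
import Groth.Agent.EtBC.Crit
import Groth.Agent.UnitStalk.Main
import Groth.Agent.UnitStalk.Fibre
import Groth.Agent.GenAcyc.Main
import Groth.Agent.AcycCover.StrictMap
import Groth.Agent.IndEtStrict.Stalk
import Groth.Agent.SiteBase.SepClosedPush.Main
import Groth.Agent.EtFound.EdgeVanish
import Groth.Agent.Hensel.HenselizationProps
import Groth.Agent.S0073

/-!
# Base change at a geometric point along a locally acyclic morphism
-/

set_option autoImplicit false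
set_option linter.style.haveILetI false
universe u

open CategoryTheory CategoryTheory.Limits AlgebraicGeometry Opposite IsLocalRing CategoryTheory.Abelian

namespace Groth.Agent.LARest12

open Groth.Agent.EtLimit Groth.Agent.EtFound Groth.Agent.EtBC

set_option backward.isDefEq.respectTransparency.types false

/-- the constant sheaf of a trivial group has no cohomology -/
theorem subsingleton_H_zmod_one (U : Scheme.{u}) (q : ℕ) :
    Subsingleton (EtCoh.H U (EtCoh.const U (ZMod 1)) q) := by
  let C := constantSheaf U.smallEtaleTopology AddCommGrpCat.{u + 1}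
  haveI : PreservesColimitsOfSize.{0, 0} C := (EtCore.constAdj U).leftAdjoint_preservesColimits
  haveI : C.PreservesZeroMorphisms := Functor.preservesZeroMorphisms_of_preserves_initial_object
  haveI : Subsingleton (AddCommGrpCat.of (ULift.{u + 1} (ZMod 1))) :=
    inferInstanceAs (Subsingleton (ULift.{u + 1} (ZMod 1)))
  exact AddCommGrpCat.subsingleton_of_isZero
    ((EtCoh.HF U q).map_isZero (C.map_isZero (AddCommGrpCat.isZero_of_subsingleton _)))

section acyclic

variable {P Q : Scheme.{u}} (m : P ⟶ Q) (n : ℕ) (hn : 0 < n)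
  (hvc : ∀ (v : Q) (RV : Type u) [CommRing RV] [IsLocalRing RV] [Algebra (Q.presheaf.stalk v) RV]
    [IsLocalHom (algebraMap (Q.presheaf.stalk v) RV)] [Hensel.IsStrictHenselization (Q.presheaf.stalk v) RV],
    VcAcyclic (pullback m (Hens2.specOf Q v RV)) n)

include hn hvc in
set_option maxHeartbeats 1000000 in
/-- the constant sheaf on the fibre over a strict localization -/
theorem bijective_const_strict_fibre (v : Q) (RV : Type u) [CommRing RV] [IsLocalRing RV]
    [Algebra (Q.presheaf.stalk v) RV] [IsLocalHom (algebraMap (Q.presheaf.stalk v) RV)]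
    [hRV : Hensel.IsStrictHenselization (Q.presheaf.stalk v) RV] (q : ℕ)
    [PreservesFiniteLimits (EtCoh.pull (pullback.snd m (Hens2.specOf Q v RV)))] :
    Function.Bijective (hVia (pullback.snd m (Hens2.specOf Q v RV)) (Hens2.specOf Q v RV)
      (pullback.fst m (Hens2.specOf Q v RV) ≫ m) pullback.condition.symm (EtCoh.const Q (ZMod n)) q) := by
  let π := Hens2.specOf Q v RV
  let b := pullback.snd m π
  haveI := hRV.henselian
  haveI := hRV.isSepClosure.sep_closed
  suffices hb : Function.Bijective (EtCore.Hpull b ((EtCoh.pull π).obj (EtCoh.const Q (ZMod n))) q) by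
    haveI : IsIso (appOf (θPull b π (pullback.fst m π ≫ m) pullback.condition.symm) (EtCoh.const Q (ZMod n))) := by
      delta appOf; infer_instance
    exact (EtBC.hmap_bijective
      (appOf (θPull b π (pullback.fst m π ≫ m) pullback.condition.symm) (EtCoh.const Q (ZMod n))) q).comp hb
  refine UnitStalk.Hpull_bijective_of_iso b (EtCore.pullConst π (ZMod n)).hom q ?_
  have hsub : ∀ {k : ℕ}, Subsingleton (EtCoh.H (pullback m π) (EtCoh.const (pullback m π) (ZMod n)) k) →
      Subsingleton (EtCoh.H (Spec (CommRingCat.of RV)) (EtCoh.const (Spec (CommRingCat.of RV)) (ZMod n)) k) →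
      Function.Bijective (EtCore.Hpull b (EtCoh.const (Spec (CommRingCat.of RV)) (ZMod n)) k) := fun {k} h2 h1 => by
    haveI h3 : Subsingleton (EtCoh.H (pullback m π)
        ((EtCoh.pull b).obj (EtCoh.const (Spec (CommRingCat.of RV)) (ZMod n))) k) :=
      (EtBC.hmap_bijective (EtCore.pullConst b (ZMod n)).hom k).1.subsingleton
    exact ⟨fun z z' _ => h1.elim z z', fun z => ⟨0, h3.elim _ z⟩⟩
  by_cases h2 : 2 ≤ n
  · obtain _ | p := q
    · obtain ⟨hne, hco⟩ := nonempty_connected_of_H0 h2 (hvc v RV).2
      haveI := hne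
      haveI := hco
      haveI : ConnectedSpace (Spec (CommRingCat.of RV)) := GenAcyc.connectedSpace_specLocal RV
      exact GenAcyc.const_Hpull_zero_bijective b _
    · exact hsub ((hvc v RV).1 (p + 1) (by omega)) (S0073.result RV _ (p + 1) (by omega))
  · obtain rfl : n = 1 := by omega
    exact hsub (subsingleton_H_zmod_one _ q) (subsingleton_H_zmod_one _ q)

include hn hvc in
set_option maxHeartbeats 1000000 in
/-- the constant sheaf has the same cohomology on both schemes -/
theorem bijective_Hpull_const_of_strict_fibres [QuasiCompact m] [QuasiSeparated m]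
    [PreservesFiniteLimits (EtCoh.pull m)] (q : ℕ) :
    Function.Bijective (EtCore.Hpull m (EtCoh.const Q (ZMod n)) q) := by
  let F := EtCoh.const Q (ZMod n)
  have hiso : IsIso ((EtCoh.pullPushAdj m).unit.app F) := EtFound.isIso_of_stalks _ fun Ω _ _ ξ => by
    obtain ⟨v, RV, _, _, _, _, hRV, τ, rfl⟩ := exists_strict_point ξ
    haveI := hRV.henselian
    haveI := hRV.isSepClosure.sep_closed
    obtain ⟨P'⟩ := nonempty_etPres_specOf Q v RV
    haveI := pull_preservesFiniteLimits (pullback.snd m (Hens2.specOf Q v RV))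
    haveI := UnitStalk.isIso_stalk_unit m P' (liftsUniquely_strict RV _ _ (resPt_base RV τ)) F
      (bijective_const_strict_fibre m n hn hvc v RV 0)
    exact (ConcreteCategory.isIso_iff_bijective
      ((EtCoh.stalk (resPt RV τ ≫ Hens2.specOf Q v RV)).map ((EtCoh.pullPushAdj m).unit.app F))).1 inferInstance
  have hv : ∀ k, 1 ≤ k → k ≤ q → IsZero ((EtCoh.Rpush m k).obj ((EtCoh.pull m).obj F)) := fun k h1 _ =>
    (isZero_iff_stalks _).2 fun Ω _ _ ξ => by
      obtain ⟨v, RV, _, _, _, _, hRV, τ, rfl⟩ := exists_strict_point ξ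
      haveI := hRV.henselian
      haveI := hRV.isSepClosure.sep_closed
      obtain ⟨P'⟩ := nonempty_etPres_specOf Q v RV
      haveI := pull_preservesFiniteLimits (pullback.snd m (Hens2.specOf Q v RV))
      exact UnitStalk.isZero_stalk_Rpush m P' (liftsUniquely_strict RV _ _ (resPt_base RV τ)) F k h1
        (bijective_const_strict_fibre m n hn hvc v RV k)
  haveI := EtFound.push_preservesFiniteLimits m
  let η := (EtCoh.pullPushAdj m).unit.app F
  haveI : IsIso η := hiso
  obtain ⟨hb, -⟩ := EtFound.edge_bijective_of_vanish (EtCoh.pullPushAdj m) q ((EtCoh.pull m).obj F) hv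
    (EtCoh.const Q ℤ)
  have hfun : (EtCore.Hpull m F q : _ → _) =
      ((fun z => (Ext.mk₀ (EtCore.pullConst m ℤ).inv).comp z (zero_add q)) ∘
        EtFound.edge (EtCoh.pullPushAdj m) (EtCoh.const Q ℤ) ((EtCoh.pull m).obj F) q) ∘
          fun x => x.comp (Ext.mk₀ η) (add_zero q) := funext fun x => by
    show (Ext.mk₀ (EtCore.pullConst m ℤ).inv).comp (x.mapExactFunctor (EtCoh.pull m)) (zero_add q) =
      (Ext.mk₀ (EtCore.pullConst m ℤ).inv).comp (EtFound.edge _ _ _ q _) (zero_add q)
    rw [EtFound.edge_apply, Ext.mapExactFunctor_comp, Ext.mapExactFunctor_mk₀,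
      Ext.comp_assoc_of_third_deg_zero, Ext.mk₀_comp_mk₀]
    erw [Adjunction.left_triangle_components]
    rw [Ext.comp_mk₀_id]
  rw [hfun]
  exact ((EtFound.precomp_bijective _ _).comp (hb q le_rfl)).comp (EtFound.postcomp_bijective _ _)

end acyclic

/-- the local ring of the spectrum of a field is a field -/
theorem isField_stalk_specField (K : Type u) [Field K] (p : Spec (CommRingCat.of K)) :
    IsField ((Spec (CommRingCat.of K)).presheaf.stalk p) := by
  haveI : IsDomain (CommRingCat.of K) := inferInstanceAs (IsDomain K)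
  haveI : Subsingleton (Spec (CommRingCat.of K)) := inferInstanceAs (Subsingleton (PrimeSpectrum K))
  rw [Subsingleton.elim p (genericPoint (Spec (CommRingCat.of K)))]
  exact Field.toIsField (Spec (CommRingCat.of K)).functionField

/-- a strict henselization of a field is a field -/
theorem isField_of_isStrictHenselization_field {R A : Type u} [CommRing R] [IsLocalRing R] [CommRing A]
    [IsLocalRing A] [Algebra R A] [IsLocalHom (algebraMap R A)] [Hensel.IsStrictHenselization R A]
    (hR : IsField R) : IsField A := by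
  rw [IsLocalRing.isField_iff_maximalIdeal_eq, ← Hensel.map_maximalIdeal_of_isStrictHenselization (R := R) (S := A),
    IsLocalRing.isField_iff_maximalIdeal_eq.1 hR, Ideal.map_bot]

section fibre

variable {X S : Scheme.{u}} (f : X ⟶ S) {Ω : Type u} [Field Ω] (t : Spec (CommRingCat.of Ω) ⟶ S)

set_option maxHeartbeats 1000000 in
/-- the fibres of the base change to the preimage of a geometric point in a strict localization -/
theorem vcAcyclic_fibre_geomPoint (hf : EtRest.IsLocallyAcyclic f) (n : ℕ) (hn : IsUnit (n : Γ(S, ⊤)))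
    (x : X) (RS : Type u) [CommRing RS] [IsLocalRing RS] [Algebra (S.presheaf.stalk (f.base x)) RS]
    [IsLocalHom (algebraMap (S.presheaf.stalk (f.base x)) RS)]
    [Hensel.IsStrictHenselization (S.presheaf.stalk (f.base x)) RS]
    (RX : Type u) [CommRing RX] [IsLocalRing RX] [Algebra (X.presheaf.stalk x) RX]
    [IsLocalHom (algebraMap (X.presheaf.stalk x) RX)] [Hensel.IsStrictHenselization (X.presheaf.stalk x) RX]
    (ψ : RS →+* RX) [IsLocalHom ψ]
    (hψ : ψ.comp (algebraMap (S.presheaf.stalk (f.base x)) RS) =
      (algebraMap (X.presheaf.stalk x) RX).comp (f.stalkMap x).hom)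
    (v : ↥(pullback t (Hens2.specOf S (f.base x) RS))) (RV : Type u) [CommRing RV] [IsLocalRing RV]
    [Algebra ((pullback t (Hens2.specOf S (f.base x) RS)).presheaf.stalk v) RV]
    [IsLocalHom (algebraMap ((pullback t (Hens2.specOf S (f.base x) RS)).presheaf.stalk v) RV)]
    [hRV : Hensel.IsStrictHenselization ((pullback t (Hens2.specOf S (f.base x) RS)).presheaf.stalk v) RV] :
    VcAcyclic (pullback (pullback.fst (pullback.snd t (Hens2.specOf S (f.base x) RS)) (Spec.map (CommRingCat.ofHom ψ)))
      (Hens2.specOf (pullback t (Hens2.specOf S (f.base x) RS)) v RV)) n := by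
  let π := Hens2.specOf S (f.base x) RS
  have hρ : IndEtStrict.IsChart π := by
    have h := IndEtStrict.isChart_specOf_comp (𝟙 S) (f.base x) RS
    rwa [Category.comp_id] at h
  obtain ⟨i1, i2, i3, -⟩ := hρ.transfers_pullback (IsPullback.of_hasPullback t π) v RV
  have hF : IsField RV :=
    @isField_of_isStrictHenselization_field _ RV _ _ _ _ i1 i2 i3 (isField_stalk_specField Ω _)
  letI : Field RV := hF.toField
  haveI := hRV.isSepClosure.sep_closed
  haveI : IsSepClosed RV := Hensel.isSepClosed_of_ringEquiv
    (RingEquiv.ofBijective (residue RV) ⟨(residue RV).injective, residue_surjective⟩).symm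
  let c := Hens2.specOf (pullback t π) v RV
  let q := pullback.snd t π
  let θ : RS →+* RV := (Spec.preimage (c ≫ q)).hom
  have hθ : Spec.map (CommRingCat.ofHom θ) = c ≫ q := Spec.map_preimage _
  letI : Algebra RS RX := ψ.toAlgebra
  haveI : IsLocalHom (algebraMap RS RX) := inferInstanceAs (IsLocalHom ψ)
  letI : Algebra RS RV := θ.toAlgebra
  have hne : ((n : ℕ) : X.residueField x) ≠ 0 := by
    have h := (hn.map f.appTop.hom).map (X.evaluation ⊤ x trivial).hom
    rw [map_natCast, map_natCast] at h
    exact h.ne_zero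
  have hvc : VcAcyclic (Spec (CommRingCat.of (EtRest.vcRing RS RX RV))) n := hf x RS RX hψ RV n hne
  let s := Spec.map (CommRingCat.ofHom ψ)
  let m := pullback.fst q s
  have sq : IsPullback (pullback.fst m c ≫ pullback.snd q s) (pullback.snd m c) s (c ≫ q) :=
    ((IsPullback.of_hasPullback m c).flip.paste_vert (IsPullback.of_hasPullback q s)).flip
  rw [← hθ] at sq
  exact vcAcyclic_of_iso (sq.isoPullback ≪≫ pullbackSpecIso RS RX RV) hvc

end fibre

section main

variable {X S : Scheme.{u}} (f : X ⟶ S) [QuasiSeparatedSpace ↥S]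
  (hf : EtRest.IsLocallyAcyclic f) (n : ℕ) (hn : IsUnit (n : Γ(S, ⊤)))
  {Ω : Type u} [Field Ω] (t : Spec (CommRingCat.of Ω) ⟶ S)

include hn t in
omit [QuasiSeparatedSpace ↥S] in
theorem pos_of_geomPoint : 0 < n := by
  rcases Nat.eq_zero_or_pos n with rfl | h
  · have h1 := (hn.map t.appTop.hom).map (Scheme.ΓSpecIso (CommRingCat.of Ω)).hom.hom
    rw [map_natCast, map_natCast] at h1
    exact absurd h1 (by simp)
  · exact h

include hf hn in
set_option maxHeartbeats 1000000 in
/-- the base change map at a geometric point is an isomorphism in every degree -/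
theorem isIso_bcQ_geomPoint [PreservesFiniteLimits (EtCoh.pull (pullback.snd f t))] (q : ℕ) :
    IsIso (EtBC.bcQ t f (pullback.fst f t) (pullback.snd f t) pullback.condition.symm q
      (EtCoh.const (Spec (CommRingCat.of Ω)) (ZMod n))) := by
  haveI : QuasiSeparated t := inferInstance
  haveI : QuasiCompact t := inferInstance
  refine EtFound.isIso_of_stalks _ fun Ω' _ _ ξ => ?_
  obtain ⟨x, RX, _, _, _, _, hRX, τ, rfl⟩ := exists_strict_point ξ
  obtain ⟨RS, _, _, _, _, hRS⟩ := S0537.result (S.presheaf.stalk (f.base x))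
  obtain ⟨ψ, _, hψ⟩ := AcycCover.exists_strictMap f x RS RX
  let π := Hens2.specOf S (f.base x) RS
  let s := Spec.map (CommRingCat.ofHom ψ)
  let m := pullback.fst (pullback.snd t π) s
  have hsp : s ≫ π = Hens2.specOf X x RX ≫ f := EtBC.specOf_map x RS RX ψ hψ
  have hX : IsPullback (m ≫ pullback.fst t π) (pullback.snd (pullback.snd t π) s) t
      (Hens2.specOf X x RX ≫ f) := by
    rw [← hsp]
    exact (IsPullback.of_hasPullback (pullback.snd t π) s).paste_horiz (IsPullback.of_hasPullback t π)
  haveI : PreservesFiniteLimits (EtCoh.pull m) := pull_preservesFiniteLimits _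
  haveI : QuasiCompact m := MorphismProperty.pullback_fst _ _ inferInstance
  haveI : QuasiSeparated m := MorphismProperty.pullback_fst _ _ inferInstance
  let G := EtCoh.const (Spec (CommRingCat.of Ω)) (ZMod n)
  have hb : Function.Bijective (EtCore.HpullVia m (pullback.fst t π) (m ≫ pullback.fst t π) rfl G q) := by
    refine (iff_of_eq (congrArg Function.Bijective (funext fun ξ =>
      HpullVia_eq m (pullback.fst t π) (m ≫ pullback.fst t π) rfl G q ξ))).2 ?_
    haveI : IsIso (appOf (θPull m (pullback.fst t π) (m ≫ pullback.fst t π) rfl) G) := by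
      delta appOf; infer_instance
    refine (EtBC.hmap_bijective (appOf (θPull m (pullback.fst t π) (m ≫ pullback.fst t π) rfl) G) q).comp ?_
    exact UnitStalk.Hpull_bijective_of_iso m (EtCore.pullConst (pullback.fst t π) (ZMod n)).hom q
      (bijective_Hpull_const_of_strict_fibres m n (pos_of_geomPoint n hn t)
        (fun v RV => vcAcyclic_fibre_geomPoint f t hf n hn x RS RX ψ hψ v RV) q)
  exact (ConcreteCategory.isIso_iff_bijective _).1
    ((EtBC.isIso_stalk_iff_HpullVia (IsPullback.of_hasPullback f t).flip x RS RX ψ hψ τ _ _ _ _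
      (IsPullback.of_hasPullback t π) _ _ hX m rfl pullback.condition G q).2 hb)

include hf hn in
/-- the base change map in degree zero -/
theorem isIso_baseChange0_geomPoint :
    IsIso (EtCoh.baseChange0 t f (pullback.fst f t) (pullback.snd f t) pullback.condition.symm
      (EtCoh.const (Spec (CommRingCat.of Ω)) (ZMod n))) := by
  haveI : PreservesFiniteLimits (EtCoh.pull (pullback.snd f t)) := pull_preservesFiniteLimits _
  haveI := isIso_bcQ_geomPoint f hf n hn t 0
  haveI := EtFound.push_preservesFiniteLimits t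
  haveI := EtFound.push_preservesFiniteLimits (pullback.fst f t)
  let G := EtCoh.const (Spec (CommRingCat.of Ω)) (ZMod n)
  let r' := (EtCoh.push (pullback.fst f t)).toRightDerivedZero.app ((EtCoh.pull (pullback.snd f t)).obj G)
  haveI : IsIso (EtCoh.baseChange0 t f (pullback.fst f t) (pullback.snd f t) pullback.condition.symm G ≫ r') := by
    rw [← EtBC.bcQ_zero_compat]
    infer_instance
  exact IsIso.of_isIso_comp_right _ r'

include hf hn in
/-- the higher direct images from the geometric fibre vanish -/
theorem isZero_Rpush_geomFibre [IsSepClosed Ω] (q : ℕ) (hq : 0 < q) :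
    IsZero ((EtCoh.Rpush (pullback.fst f t) q).obj (EtCoh.const (pullback f t) (ZMod n))) := by
  haveI : PreservesFiniteLimits (EtCoh.pull (pullback.snd f t)) := pull_preservesFiniteLimits _
  haveI := isIso_bcQ_geomPoint f hf n hn t q
  obtain ⟨k, rfl⟩ : ∃ k, q = k + 1 := ⟨q - 1, by omega⟩
  haveI : IsDomain (CommRingCat.of Ω) := inferInstanceAs (IsDomain Ω)
  haveI : Subsingleton (Spec (CommRingCat.of Ω)) := inferInstanceAs (Subsingleton (PrimeSpectrum Ω))
  haveI := SepClosedPush.isSepClosed_functionField_specField Ω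
  haveI := EtFound.push_preservesFiniteLimits t
  haveI := SepClosedPush.push_preservesFiniteColimits t
  haveI : (EtCoh.pull f).PreservesZeroMorphisms :=
    haveI := (EtCoh.pullPushAdj f).leftAdjoint_preservesColimits
    Functor.preservesZeroMorphisms_of_preserves_initial_object
  let G := EtCoh.const (Spec (CommRingCat.of Ω)) (ZMod n)
  have h0 : IsZero ((EtCoh.pull f).obj ((EtCoh.Rpush t (k + 1)).obj G)) :=
    Functor.map_isZero _ (SepClosedPush.isZero_rightDerived_of_exact (EtCoh.push t) G k)
  refine (h0.of_iso (asIso (EtBC.bcQ t f (pullback.fst f t) (pullback.snd f t) pullback.condition.symm (k + 1) G)).symm).of_iso ?_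
  exact (EtCoh.Rpush (pullback.fst f t) (k + 1)).mapIso (EtCore.pullConst (pullback.snd f t) (ZMod n)).symm

end main

end Groth.Agent.LARest12
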