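import Groth.Agent.AcycCover.Local

/-!
# Unit and higher direct images of a morphism with acyclic geometric fibres
-/

set_option autoImplicit false
set_option linter.style.haveILetI false
universe u

open CategoryTheory CategoryTheory.Limits AlgebraicGeometry Opposite IsLocalRing

namespace Groth.Agent.LARest12

open Groth.Agent.EtLimit Groth.Agent.EtFound Groth.Agent.EtBC Groth.Agent.AcycCover

set_option backward.isDefEq.respectTransparency.types false

variable {X Y : Scheme.{u}} (g : X ⟶ Y) [QuasiCompact g] [QuasiSeparated g] (L : Set ℕ) (n : ℕ)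
  (hfib : EtAcyc.GeomFibresAcyclicN L n g)
  (hsurj : EtAcyc.OnStrictLocalizations g fun _ _ h => Surjective h)
  (hloc : ∀ m, m < n → EtAcyc.IsLocAcyclicN g L m)

include hfib hsurj hloc in
set_option maxHeartbeats 1000000 in
/-- the fibre of `g` over a strict localization of the base -/
theorem bijective_strict_fibre_global (F : EtCoh.Ab Y) (hF : EtAcyc.IsLTorsion L F) (y : Y)
    (RY : Type u) [CommRing RY] [IsLocalRing RY] [Algebra (Y.presheaf.stalk y) RY]
    [IsLocalHom (algebraMap (Y.presheaf.stalk y) RY)] [hRY : Hensel.IsStrictHenselization (Y.presheaf.stalk y) RY]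
    (q : ℕ) (hq : q ≤ n) [PreservesFiniteLimits (EtCoh.pull (pullback.snd g (Hens2.specOf Y y RY)))] :
    Function.Bijective (hVia (pullback.snd g (Hens2.specOf Y y RY)) (Hens2.specOf Y y RY)
      (pullback.fst g (Hens2.specOf Y y RY) ≫ g) pullback.condition.symm F q) := by
  haveI : HenselianLocalRing RY := hRY.henselian
  haveI : IsSepClosed (ResidueField RY) := hRY.isSepClosure.sep_closed
  let π := Hens2.specOf Y y RY
  let gT := pullback.snd g π
  have sq : IsPullback (pullback.fst g π) gT g π := IsPullback.of_hasPullback g π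
  have hρ : IndEtStrict.IsChart π := by
    have h := IndEtStrict.isChart_specOf_comp (𝟙 Y) y RY
    rwa [Category.comp_id] at h
  have ha := hρ.transfers_pullback sq
  haveI : QuasiCompact gT := MorphismProperty.pullback_snd _ _ inferInstance
  haveI : QuasiSeparated gT := MorphismProperty.pullback_snd _ _ inferInstance
  have hC : EtAcyc.CompN gT L n := compN_strict gT L n
    (fun t S _ _ _ _ _ => fibres_baseChange g hρ.transfers sq hfib t S)
    (onStrictLocalizations_square hρ.transfers ha sq.w hsurj)
    (fun m hm => onStrictLocalizations_square hρ.transfers ha sq.w (hloc m hm))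
  have hb := (hC ((EtCoh.pull π).obj F) (isLTorsion_pull π L hF)).1 q hq
  haveI : IsIso (appOf (θPull gT π (pullback.fst g π ≫ g) pullback.condition.symm) F) := by delta appOf; infer_instance
  exact (hmap_bijective (appOf (θPull gT π (pullback.fst g π ≫ g) pullback.condition.symm) F) q).comp hb

include hfib hsurj hloc in
set_option maxHeartbeats 1000000 in
/-- the unit is an isomorphism and the higher direct images vanish -/
theorem unit_and_Rpush_of_fibres (F : EtCoh.Ab Y) (hF : EtAcyc.IsLTorsion L F) :
    IsIso ((EtCoh.pullPushAdj g).unit.app F) ∧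
      ∀ q : ℕ, 1 ≤ q → q ≤ n → IsZero ((EtCoh.Rpush g q).obj ((EtCoh.pull g).obj F)) := by
  haveI : PreservesFiniteLimits (EtCoh.pull g) := pull_preservesFiniteLimits _
  refine ⟨EtFound.isIso_of_stalks _ fun Ω _ _ ξ => ?_, fun q h1 hqn => (isZero_iff_stalks _).2 fun Ω _ _ ξ => ?_⟩
  · obtain ⟨v, RV, _, _, _, _, hRV, τ, rfl⟩ := exists_strict_point ξ
    haveI := hRV.henselian
    haveI := hRV.isSepClosure.sep_closed
    obtain ⟨P⟩ := nonempty_etPres_specOf Y v RV
    haveI := pull_preservesFiniteLimits (pullback.snd g (Hens2.specOf Y v RV))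
    haveI := UnitStalk.isIso_stalk_unit g P (liftsUniquely_strict RV _ _ (resPt_base RV τ)) F
      (bijective_strict_fibre_global g L n hfib hsurj hloc F hF v RV 0 (Nat.zero_le _))
    exact (ConcreteCategory.isIso_iff_bijective
      ((EtCoh.stalk (resPt RV τ ≫ Hens2.specOf Y v RV)).map ((EtCoh.pullPushAdj g).unit.app F))).1 inferInstance
  · obtain ⟨v, RV, _, _, _, _, hRV, τ, rfl⟩ := exists_strict_point ξ
    haveI := hRV.henselian
    haveI := hRV.isSepClosure.sep_closed
    obtain ⟨P⟩ := nonempty_etPres_specOf Y v RV
    haveI := pull_preservesFiniteLimits (pullback.snd g (Hens2.specOf Y v RV))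
    exact UnitStalk.isZero_stalk_Rpush g P (liftsUniquely_strict RV _ _ (resPt_base RV τ)) F q h1
      (bijective_strict_fibre_global g L n hfib hsurj hloc F hF v RV q hqn)

end Groth.Agent.LARest12
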