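import Groth.Agent.AcycBase.Square
import Mathlib.AlgebraicGeometry.Morphisms.Integral

/-!
# Strict localizations of a base change along an integral morphism
-/

set_option autoImplicit false
set_option linter.style.haveILetI false
universe u

open CategoryTheory CategoryTheory.Limits AlgebraicGeometry IsLocalRing TensorProduct

namespace Groth.Agent.LARest12

set_option backward.isDefEq.respectTransparency.types false

open Groth.Agent.AcycBase

/-- strict henselizations along an integral ring map are integral -/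
theorem isIntegral_strict (R S : Type u) [CommRing R] [CommRing S] [Algebra R S] [Algebra.IsIntegral R S]
    (p : Ideal R) [p.IsPrime] (q : Ideal S) [q.IsPrime] [q.LiesOver p]
    (Rh : Type u) [CommRing Rh] [IsLocalRing Rh] [Algebra (Localization.AtPrime p) Rh]
    [IsLocalHom (algebraMap (Localization.AtPrime p) Rh)] [Algebra R Rh] [IsScalarTower R (Localization.AtPrime p) Rh]
    [Hensel.IsStrictHenselization (Localization.AtPrime p) Rh]
    (Sh : Type u) [CommRing Sh] [IsLocalRing Sh] [Algebra (Localization.AtPrime q) Sh]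
    [IsLocalHom (algebraMap (Localization.AtPrime q) Sh)] [Algebra S Sh] [IsScalarTower S (Localization.AtPrime q) Sh]
    [Hensel.IsStrictHenselization (Localization.AtPrime q) Sh]
    [Algebra R Sh] [IsScalarTower R S Sh] [Algebra Rh Sh] [IsScalarTower R Rh Sh] :
    Algebra.IsIntegral Rh Sh := by
  refine Groth.Agent.Hensel.isIntegral_strict_of_stages R S p q Rh Sh fun s => ?_
  let D := Algebra.adjoin Rh (s : Set (Rh ⊗[R] S))
  haveI : Algebra.IsIntegral Rh (Rh ⊗[R] S) := inferInstance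
  haveI : Algebra.FiniteType Rh D := ⟨(Subalgebra.fg_top D).2 ⟨s, rfl⟩⟩
  haveI : Algebra.IsIntegral Rh D := Algebra.IsIntegral.of_injective D.val Subtype.val_injective
  haveI : Module.Finite Rh D := Algebra.IsIntegral.finite
  exact ⟨D, inferInstance, inferInstance, inferInstance, inferInstance,
    (IsScalarTower.toAlgHom Rh (Rh ⊗[R] S) _).comp D.val, fun d hd => ⟨⟨d, Algebra.subset_adjoin hd⟩, rfl⟩⟩

variable {X Y X' Y' : Scheme.{u}} {g : X ⟶ Y} {i : Y' ⟶ Y} {g₁ : X' ⟶ Y'} {p : X' ⟶ X}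

set_option maxHeartbeats 2000000 in
/-- the affine case, in charts -/
theorem isPullback_strict_charts {A B C : Type u} [CommRing A] [CommRing B] [CommRing C] [Algebra A B] [Algebra A C]
    [Algebra.IsIntegral A B]
    (jA : Spec (CommRingCat.of A) ⟶ Y) [IsOpenImmersion jA] (jB : Spec (CommRingCat.of B) ⟶ Y') [IsOpenImmersion jB]
    (jC : Spec (CommRingCat.of C) ⟶ X) [IsOpenImmersion jC]
    (j : Spec (CommRingCat.of (B ⊗[A] C)) ⟶ X') [IsOpenImmersion j]
    (hB : Spec.map (CommRingCat.ofHom (algebraMap A B)) ≫ jA = jB ≫ i)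
    (hC : Spec.map (CommRingCat.ofHom (algebraMap A C)) ≫ jA = jC ≫ g)
    (hj₁ : j ≫ g₁ =
      Spec.map (CommRingCat.ofHom (Algebra.TensorProduct.includeLeftRingHom : B →+* B ⊗[A] C)) ≫ jB)
    (hj₂ : j ≫ p = Spec.map (CommRingCat.ofHom
      (Algebra.TensorProduct.includeRight : C →ₐ[A] B ⊗[A] C).toRingHom) ≫ jC)
    {y : Y} {y' : Y'} {x : X} {x' : X'} (d : PrimeSpectrum (B ⊗[A] C)) (hd : j d = x') (hy' : g₁ x' = y')
    (hy : i y' = y) (hx : p x' = x)
    (RS RS' RX RX' : Type u) [CommRing RS] [CommRing RS'] [CommRing RX] [CommRing RX']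
    [IsLocalRing RS] [IsLocalRing RS'] [IsLocalRing RX] [IsLocalRing RX']
    [Algebra (Y.presheaf.stalk y) RS] [IsLocalHom (algebraMap (Y.presheaf.stalk y) RS)]
    [Hensel.IsStrictHenselization (Y.presheaf.stalk y) RS]
    [Algebra (Y'.presheaf.stalk y') RS'] [IsLocalHom (algebraMap (Y'.presheaf.stalk y') RS')]
    [Hensel.IsStrictHenselization (Y'.presheaf.stalk y') RS']
    [Algebra (X.presheaf.stalk x) RX] [IsLocalHom (algebraMap (X.presheaf.stalk x) RX)]
    [Hensel.IsStrictHenselization (X.presheaf.stalk x) RX]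
    [Algebra (X'.presheaf.stalk x') RX'] [IsLocalHom (algebraMap (X'.presheaf.stalk x') RX')]
    [Hensel.IsStrictHenselization (X'.presheaf.stalk x') RX']
    (φ : RS →+* RS') [IsLocalHom φ] (χ : RS →+* RX) [IsLocalHom χ] (φ' : RS' →+* RX') [IsLocalHom φ']
    (ψ : RX →+* RX') [IsLocalHom ψ]
    (eφ : Spec.map (CommRingCat.ofHom φ) ≫ Hens2.specOf Y y RS = Hens2.specOf Y' y' RS' ≫ i)
    (eχ : Spec.map (CommRingCat.ofHom χ) ≫ Hens2.specOf Y y RS = Hens2.specOf X x RX ≫ g)
    (eφ' : Spec.map (CommRingCat.ofHom φ') ≫ Hens2.specOf Y' y' RS' = Hens2.specOf X' x' RX' ≫ g₁)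
    (eψ : Spec.map (CommRingCat.ofHom ψ) ≫ Hens2.specOf X x RX = Hens2.specOf X' x' RX' ≫ p)
    (hcomm : ψ.comp χ = φ'.comp φ) :
    IsPullback (Spec.map (CommRingCat.ofHom ψ)) (Spec.map (CommRingCat.ofHom φ'))
      (Spec.map (CommRingCat.ofHom χ)) (Spec.map (CommRingCat.ofHom φ)) ∧ φ.IsIntegral := by
  let iL : B →+* B ⊗[A] C := Algebra.TensorProduct.includeLeftRingHom
  let iR : C →+* B ⊗[A] C := (Algebra.TensorProduct.includeRight : C →ₐ[A] B ⊗[A] C).toRingHom
  let b : PrimeSpectrum B := PrimeSpectrum.comap iL d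
  let c : PrimeSpectrum C := PrimeSpectrum.comap iR d
  let a : PrimeSpectrum A := PrimeSpectrum.comap (algebraMap A B) b
  haveI := a.isPrime
  haveI := b.isPrime
  haveI := c.isPrime
  haveI := d.isPrime
  have hb : jB b = y' := (comp_apply_eq hj₁.symm d).trans ((Scheme.Hom.comp_apply _ _ _).trans (hd ▸ hy'))
  have hc : jC c = x := (comp_apply_eq hj₂.symm d).trans ((Scheme.Hom.comp_apply _ _ _).trans (hd ▸ hx))
  have ha : jA a = y := (comp_apply_eq hB b).trans ((Scheme.Hom.comp_apply _ _ _).trans (hb ▸ hy))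
  haveI : b.asIdeal.LiesOver a.asIdeal := ⟨rfl⟩
  haveI : d.asIdeal.LiesOver b.asIdeal := ⟨rfl⟩
  haveI : c.asIdeal.LiesOver a.asIdeal := ⟨by
    show a.asIdeal = (d.asIdeal.comap iR).comap (algebraMap A C)
    show (d.asIdeal.comap iL).comap (algebraMap A B) = _
    rw [Ideal.comap_comap, Ideal.comap_comap]
    congr 1
    exact ((Algebra.TensorProduct.includeLeft : B →ₐ[A] B ⊗[A] C).comp_algebraMap).trans
      ((Algebra.TensorProduct.includeRight : C →ₐ[A] B ⊗[A] C).comp_algebraMap).symm⟩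
  obtain ⟨i1, i2, i3, hA'⟩ := exists_chartStrict jA a ha RS
  obtain ⟨j1, j2, j3, hB'⟩ := exists_chartStrict jB b hb RS'
  obtain ⟨k1, k2, k3, hC'⟩ := exists_chartStrict jC c hc RX
  obtain ⟨l1, l2, l3, hD'⟩ := exists_chartStrict j d hd RX'
  let aA : A →+* RS := (algebraMap (Localization.AtPrime a.asIdeal) RS).comp (algebraMap A _)
  let aB : B →+* RS' := (algebraMap (Localization.AtPrime b.asIdeal) RS').comp (algebraMap B _)
  let aC : C →+* RX := (algebraMap (Localization.AtPrime c.asIdeal) RX).comp (algebraMap C _)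
  let aD : B ⊗[A] C →+* RX' := (algebraMap (Localization.AtPrime d.asIdeal) RX').comp (algebraMap _ _)
  have eB : φ.comp aA = aB.comp (algebraMap A B) := chart_eq jA jB eφ hA' hB' hB
  have eC : χ.comp aA = aC.comp (algebraMap A C) := chart_eq jA jC eχ hA' hC' hC
  have eL : φ'.comp aB = aD.comp iL := chart_eq jB j eφ' hB' hD' hj₁.symm
  have eR : ψ.comp aC = aD.comp iR := chart_eq jC j eψ hC' hD' hj₂.symm
  letI : Algebra A RS := aA.toAlgebra
  letI : Algebra B RS' := aB.toAlgebra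
  letI : Algebra C RX := aC.toAlgebra
  letI : Algebra (B ⊗[A] C) RX' := aD.toAlgebra
  letI : Algebra A RS' := (aB.comp (algebraMap A B)).toAlgebra
  letI : Algebra A RX := (aC.comp (algebraMap A C)).toAlgebra
  letI : Algebra RS RS' := φ.toAlgebra
  letI : Algebra RS RX := χ.toAlgebra
  letI : Algebra RS' RX' := φ'.toAlgebra
  letI : Algebra RX RX' := ψ.toAlgebra
  letI : Algebra B RX' := (aD.comp iL).toAlgebra
  letI : Algebra RS RX' := (φ'.comp φ).toAlgebra
  haveI : IsLocalHom (algebraMap RS RS') := ‹IsLocalHom φ›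
  haveI : IsLocalHom (algebraMap RS RX) := ‹IsLocalHom χ›
  haveI : IsLocalHom (algebraMap RS' RX') := ‹IsLocalHom φ'›
  haveI : IsLocalHom (algebraMap RX RX') := ‹IsLocalHom ψ›
  haveI : IsScalarTower A (Localization.AtPrime a.asIdeal) RS := .of_algebraMap_eq fun _ => rfl
  haveI : IsScalarTower B (Localization.AtPrime b.asIdeal) RS' := .of_algebraMap_eq fun _ => rfl
  haveI : IsScalarTower C (Localization.AtPrime c.asIdeal) RX := .of_algebraMap_eq fun _ => rfl
  haveI : IsScalarTower (B ⊗[A] C) (Localization.AtPrime d.asIdeal) RX' := .of_algebraMap_eq fun _ => rfl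
  haveI : IsScalarTower A B RS' := .of_algebraMap_eq fun _ => rfl
  haveI : IsScalarTower A C RX := .of_algebraMap_eq fun _ => rfl
  haveI : IsScalarTower A RS RS' := .of_algebraMap_eq fun r => (congr($eB r)).symm
  haveI : IsScalarTower A RS RX := .of_algebraMap_eq fun r => (congr($eC r)).symm
  haveI : IsScalarTower B RS' RX' := .of_algebraMap_eq fun r => (congr($eL r)).symm
  haveI : IsScalarTower B (B ⊗[A] C) RX' := .of_algebraMap_eq fun _ => rfl
  haveI : IsScalarTower RS RS' RX' := .of_algebraMap_eq fun _ => rfl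
  haveI : IsScalarTower RS RX RX' := .of_algebraMap_eq fun r => (congr($hcomm r)).symm
  haveI : HenselianLocalRing RS := Hensel.IsStrictHenselization.henselian (R := Localization.AtPrime a.asIdeal)
  haveI : IsSepClosed (ResidueField RS) :=
    (Hensel.IsStrictHenselization.isSepClosure (R := Localization.AtPrime a.asIdeal) (S := RS)).sep_closed
  have hint : Algebra.IsIntegral RS RS' := isIntegral_strict A B a.asIdeal b.asIdeal RS RS'
  have := Groth.Agent.Hensel.isPurelyInseparable_strict A B a.asIdeal b.asIdeal RS RS'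
  have hbij := Groth.Agent.Hensel.bijective_tensor_strict A B C b.asIdeal c.asIdeal d.asIdeal rfl RS RS' RX RX'
    (fun r => congr($eR r))
  refine ⟨isPullback_SpecMap_of_isPushout _ _ _ _ ?_, fun z => hint.isIntegral z⟩
  let e : RS' ⊗[RS] RX ≃+* RX' := RingEquiv.ofBijective _ hbij
  refine (CommRingCat.isPushout_tensorProduct RS RS' RX).flip.of_iso (Iso.refl _) (Iso.refl _) (Iso.refl _)
    e.toCommRingCatIso ?_ ?_ ?_ ?_
  · rfl
  · rfl
  · ext r
    show Algebra.TensorProduct.lift (IsScalarTower.toAlgHom RS RS' RX') (IsScalarTower.toAlgHom RS RX RX')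
      (fun _ _ => Commute.all _ _) ((1 : RS') ⊗ₜ[RS] r) = ψ r
    rw [Algebra.TensorProduct.lift_tmul, map_one, one_mul]
    rfl
  · ext r
    show Algebra.TensorProduct.lift (IsScalarTower.toAlgHom RS RS' RX') (IsScalarTower.toAlgHom RS RX RX')
      (fun _ _ => Commute.all _ _) (r ⊗ₜ[RS] (1 : RX)) = φ' r
    rw [Algebra.TensorProduct.lift_tmul, map_one, mul_one]
    rfl

set_option maxHeartbeats 1000000 in
/-- strict localizations of a base change along an integral morphism are base changes -/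
theorem exists_isPullback_strict [IsIntegralHom i] (sq : IsPullback p g₁ g i)
    (x' : X') (RS' RX' : Type u) [CommRing RS'] [CommRing RX'] [IsLocalRing RS'] [IsLocalRing RX']
    [Algebra (Y'.presheaf.stalk (g₁.base x')) RS'] [IsLocalHom (algebraMap (Y'.presheaf.stalk (g₁.base x')) RS')]
    [Hensel.IsStrictHenselization (Y'.presheaf.stalk (g₁.base x')) RS']
    [Algebra (X'.presheaf.stalk x') RX'] [IsLocalHom (algebraMap (X'.presheaf.stalk x') RX')]
    [Hensel.IsStrictHenselization (X'.presheaf.stalk x') RX']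
    [Algebra RS' RX'] [IsLocalHom (algebraMap RS' RX')]
    (hc : (algebraMap RS' RX').comp (algebraMap (Y'.presheaf.stalk (g₁.base x')) RS') =
      (algebraMap (X'.presheaf.stalk x') RX').comp (g₁.stalkMap x').hom) :
    ∃ (RS RX : Type u) (_ : CommRing RS) (_ : CommRing RX) (_ : IsLocalRing RS) (_ : IsLocalRing RX)
      (_ : Algebra (Y.presheaf.stalk (g.base (p.base x'))) RS)
      (_ : IsLocalHom (algebraMap (Y.presheaf.stalk (g.base (p.base x'))) RS))
      (_ : Hensel.IsStrictHenselization (Y.presheaf.stalk (g.base (p.base x'))) RS)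
      (_ : Algebra (X.presheaf.stalk (p.base x')) RX)
      (_ : IsLocalHom (algebraMap (X.presheaf.stalk (p.base x')) RX))
      (_ : Hensel.IsStrictHenselization (X.presheaf.stalk (p.base x')) RX)
      (χ : RS →+* RX) (_ : IsLocalHom χ) (φ : RS →+* RS') (ψ : RX →+* RX'),
      χ.comp (algebraMap (Y.presheaf.stalk (g.base (p.base x'))) RS) =
        (algebraMap (X.presheaf.stalk (p.base x')) RX).comp (g.stalkMap (p.base x')).hom ∧
      IsPullback (Spec.map (CommRingCat.ofHom ψ)) (Spec.map (CommRingCat.ofHom (algebraMap RS' RX')))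
        (Spec.map (CommRingCat.ofHom χ)) (Spec.map (CommRingCat.ofHom φ)) ∧ φ.IsIntegral := by
  let x := p.base x'
  let y' := g₁.base x'
  let y := g.base x
  have hy : i.base y' = y := (comp_apply_eq sq.w.symm x').trans (Scheme.Hom.comp_apply _ _ _)
  let RS := Hensel.StrictHenz (Y.presheaf.stalk y)
  let RX := Hensel.StrictHenz (X.presheaf.stalk x)
  haveI : HenselianLocalRing RX' := _root_.Hensel.IsStrictHenselization.henselian (X'.presheaf.stalk x')
  -- the structure on `RS` seen from `y'`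
  obtain ⟨a1, a2, a3, ha⟩ := IndEtStrict.strict_congr hy.symm RS (Hens2.specOf Y y RS)
    ⟨inferInstance, inferInstance, inferInstance, rfl⟩
  haveI : IsLocalHom (i.stalkMap y').hom := inferInstance
  obtain ⟨φ, hφl, hφ⟩ := @EtFound.exists_strictMap _ _ _ _ _ _ RS RS' _ _ _ _ a1 a2 a3 _ _ _ (i.stalkMap y').hom _
  obtain ⟨ψ, hψl, hψ⟩ := EtFound.exists_strictMap RX RX' (p.stalkMap x').hom
  have eφ : Spec.map (CommRingCat.ofHom φ) ≫ Hens2.specOf Y y RS = Hens2.specOf Y' y' RS' ≫ i :=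
    (congrArg (_ ≫ ·) ha).trans (@EtBC.specOf_map _ _ i y' RS _ a1 RS' _ _ φ hφ)
  have eψ : Spec.map (CommRingCat.ofHom ψ) ≫ Hens2.specOf X x RX = Hens2.specOf X' x' RX' ≫ p :=
    EtBC.specOf_map x' RX RX' ψ hψ
  have eφ' : Spec.map (CommRingCat.ofHom (algebraMap RS' RX')) ≫ Hens2.specOf Y' y' RS' =
      Hens2.specOf X' x' RX' ≫ g₁ := EtBC.specOf_map x' RS' RX' _ hc
  let φ₁ : RS →+* RX' := (algebraMap RS' RX').comp φ
  haveI : IsLocalHom φ₁ := RingHom.isLocalHom_comp _ _
  have e₁ : Spec.map (CommRingCat.ofHom φ₁) ≫ Hens2.specOf Y y RS = Hens2.specOf X' x' RX' ≫ p ≫ g := by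
    rw [CommRingCat.ofHom_comp, Spec.map_comp, Category.assoc, eφ, ← Category.assoc, eφ', Category.assoc, ← sq.w]
  have hφ₁ : φ₁.comp (algebraMap (Y.presheaf.stalk y) RS) =
      (algebraMap (X'.presheaf.stalk x') RX').comp ((p.stalkMap x').hom.comp (g.stalkMap x).hom) := by
    refine congrArg CommRingCat.Hom.hom (Spec.map_injective ((cancel_mono (Y.fromSpecStalk y)).1 ?_) :
      CommRingCat.ofHom (φ₁.comp (algebraMap (Y.presheaf.stalk y) RS)) = CommRingCat.ofHom
        ((algebraMap (X'.presheaf.stalk x') RX').comp ((p.stalkMap x').hom.comp (g.stalkMap x).hom)))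
    rw [CommRingCat.ofHom_comp, Spec.map_comp, Category.assoc]
    refine e₁.trans ?_
    rw [← RingHom.comp_assoc, UnitStalk.specMap_fromSpecStalk, ← Category.assoc (Spec.map _),
      UnitStalk.specMap_fromSpecStalk, Hens2.specOf]
    simp only [Category.assoc]
  obtain ⟨χ, hχl, hχ, hψχ⟩ := EtFound.exists_strictFactor RS RX RX' (g.stalkMap x).hom (p.stalkMap x').hom φ₁ hφ₁ ψ hψ
  refine ⟨RS, RX, inferInstance, inferInstance, inferInstance, inferInstance, inferInstance, inferInstance,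
    inferInstance, inferInstance, inferInstance, inferInstance, χ, hχl, φ, ψ, hχ, ?_⟩
  -- charts
  obtain ⟨_, ⟨U, hU, rfl⟩, hyU, -⟩ :=
    Y.isBasis_affineOpens.exists_subset_of_mem_open (Set.mem_univ y) isOpen_univ
  let V := i ⁻¹ᵁ U
  have hy'V : y' ∈ V := by show i.base y' ∈ U; rw [hy]; exact hyU
  have hVU : V ≤ i ⁻¹ᵁ U := le_rfl
  obtain ⟨_, ⟨W, hW, rfl⟩, hxW, hWU⟩ :=
    X.isBasis_affineOpens.exists_subset_of_mem_open (show x ∈ g ⁻¹ᵁ U from hyU) (g ⁻¹ᵁ U).2
  replace hU : IsAffineOpen U := hU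
  have hV : IsAffineOpen V := IsAffineHom.isAffine_preimage U hU
  replace hW : IsAffineOpen W := hW
  letI aUV : Algebra Γ(Y, U) Γ(Y', V) := (i.appLE U V hVU).hom.toAlgebra
  letI aUW : Algebra Γ(Y, U) Γ(X, W) := (g.appLE U W hWU).hom.toAlgebra
  haveI : Algebra.IsIntegral Γ(Y, U) Γ(Y', V) := ⟨by
    intro z
    have h0 : (i.appLE U V hVU).hom.IsIntegral := by
      rw [show i.appLE U V hVU = i.app U from (Scheme.Hom.app_eq_appLE i).symm]
      exact IsIntegralHom.isIntegral_app i U hU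
    exact h0 z⟩
  haveI := hU.isOpenImmersion_fromSpec
  haveI := hV.isOpenImmersion_fromSpec
  haveI := hW.isOpenImmersion_fromSpec
  have hB : Spec.map (CommRingCat.ofHom (algebraMap Γ(Y, U) Γ(Y', V))) ≫ hU.fromSpec = hV.fromSpec ≫ i :=
    hU.SpecMap_appLE_fromSpec i hV hVU
  have hC : Spec.map (CommRingCat.ofHom (algebraMap Γ(Y, U) Γ(X, W))) ≫ hU.fromSpec = hW.fromSpec ≫ g :=
    hU.SpecMap_appLE_fromSpec g hW hWU
  let m := pullback.map (Spec.map (CommRingCat.ofHom (algebraMap Γ(Y, U) Γ(Y', V))))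
    (Spec.map (CommRingCat.ofHom (algebraMap Γ(Y, U) Γ(X, W)))) i g hV.fromSpec hW.fromSpec hU.fromSpec hB hC
  let j : Spec (CommRingCat.of (Γ(Y', V) ⊗[Γ(Y, U)] Γ(X, W))) ⟶ X' :=
    (pullbackSpecIso Γ(Y, U) Γ(Y', V) Γ(X, W)).inv ≫ m ≫ sq.flip.isoPullback.inv
  have hj₁ : j ≫ g₁ = Spec.map (CommRingCat.ofHom
      (Algebra.TensorProduct.includeLeftRingHom : Γ(Y', V) →+* Γ(Y', V) ⊗[Γ(Y, U)] Γ(X, W))) ≫ hV.fromSpec := by
    simp only [j, m, Category.assoc, IsPullback.isoPullback_inv_fst, pullback.lift_fst]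
    rw [← Category.assoc, pullbackSpecIso_inv_fst]
  have hj₂ : j ≫ p = Spec.map (CommRingCat.ofHom
      (Algebra.TensorProduct.includeRight : Γ(X, W) →ₐ[Γ(Y, U)] Γ(Y', V) ⊗[Γ(Y, U)] Γ(X, W)).toRingHom) ≫
      hW.fromSpec := by
    simp only [j, m, Category.assoc, IsPullback.isoPullback_inv_snd, pullback.lift_snd]
    rw [← Category.assoc, pullbackSpecIso_inv_snd]
    rfl
  haveI : IsOpenImmersion m := Scheme.pullback_map_isOpenImmersion _ _ _ _ _ _ _ _ _
  haveI : IsOpenImmersion j := inferInstance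
  obtain ⟨d, hd⟩ : ∃ d, j d = x' := by
    have hz : sq.flip.isoPullback.hom x' ∈ Set.range m := by
      rw [Scheme.Pullback.range_map]
      refine ⟨?_, ?_⟩
      · show pullback.fst i g (sq.flip.isoPullback.hom x') ∈ Set.range hV.fromSpec
        rw [comp_apply_eq sq.flip.isoPullback_hom_fst, hV.range_fromSpec]
        exact hy'V
      · show pullback.snd i g (sq.flip.isoPullback.hom x') ∈ Set.range hW.fromSpec
        rw [comp_apply_eq sq.flip.isoPullback_hom_snd, hW.range_fromSpec]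
        exact hxW
    obtain ⟨t, ht⟩ := hz
    obtain ⟨d, rfl⟩ := (pullbackSpecIso Γ(Y, U) Γ(Y', V) Γ(X, W)).inv.surjective t
    refine ⟨d, ?_⟩
    show ((pullbackSpecIso Γ(Y, U) Γ(Y', V) Γ(X, W)).inv ≫ m ≫ sq.flip.isoPullback.inv) d = x'
    rw [Scheme.Hom.comp_apply, Scheme.Hom.comp_apply, ht]
    exact comp_apply_eq sq.flip.isoPullback.hom_inv_id x'
  exact isPullback_strict_charts hU.fromSpec hV.fromSpec hW.fromSpec j hB hC hj₁ hj₂ d hd rfl hy rfl RS RS' RX RX'
    φ χ (algebraMap RS' RX') ψ eφ (EtBC.specOf_map x RS RX χ hχ) eφ' eψ hψχ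

end Groth.Agent.LARest12
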