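import Groth.Agent.LARest12.Coeff
import Groth.Agent.LARest12.Bridge
import Groth.Agent.GenAcyc.Main
import Groth.Agent.AcycCover.Fibres
import Groth.Agent.EtBC.Crit
import Groth.Agent.EtBC.ViaTools
import Groth.Agent.S0073

/-!
# Local acyclicity relative to a locally constant sheaf
-/

set_option autoImplicit false
set_option linter.style.haveILetI false
set_option backward.isDefEq.respectTransparency false
set_option backward.isDefEq.respectTransparency.types false

universe u

open CategoryTheory CategoryTheory.Limits AlgebraicGeometry Opposite IsLocalRing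
open scoped TensorProduct

namespace Groth.Agent.LARest12

open Groth.Agent.EtFound Groth.Agent.EtLimit Groth.Agent.EtBC

/-- the values of a constant sheaf inherit the torsion of a stalk -/
theorem torsion_of_stalk {X T : Scheme.{u}} (π : T ⟶ X) (F : EtCoh.Ab X) (A : AddCommGrpCat.{u + 1})
    (e : (constantSheaf T.smallEtaleTopology AddCommGrpCat.{u + 1}).obj A ≅ (EtCoh.pull π).obj F)
    {Ω : Type u} [Field Ω] [IsSepClosed Ω] (z : Spec (CommRingCat.of Ω) ⟶ T) (a : A) :
    ∃ s : (EtCoh.stalk (z ≫ π)).obj F, ∀ n : ℕ, n • s = 0 → n • a = 0 := by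
  let v : (Scheme.pointSmallEtale z).fiber.obj (EtCoh.top T) := CategoryTheory.Over.homMk z (Category.comp_id _)
  let g : A ⟶ (EtCoh.stalk z).obj ((constantSheaf T.smallEtaleTopology AddCommGrpCat.{u + 1}).obj A) :=
    (toSheafify T.smallEtaleTopology ((Functor.const T.Etaleᵒᵖ).obj A)).app (op (EtCoh.top T)) ≫
      (Scheme.pointSmallEtale z).toPresheafFiber (EtCoh.top T) v _
  have hg : Function.Bijective g := toSheafify_const_germ_bijective z AddCommGrpCat.{u + 1} A (EtCoh.top T) v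
  let i := (EtBC.stalkToPull (g := π) (ξ' := z) (ξ := z ≫ π) rfl).app F
  let h : A ⟶ (EtCoh.stalk (z ≫ π)).obj F := g ≫ (EtCoh.stalk z).map e.hom ≫ i.inv
  have hh : Function.Injective h :=
    (((ConcreteCategory.isIso_iff_bijective ((EtCoh.stalk z).map e.hom ≫ i.inv)).1 inferInstance).1).comp hg.1
  refine ⟨h a, fun n hn => hh ?_⟩
  rw [map_nsmul, hn, map_zero]

variable {X S : Scheme.{u}} {f : X ⟶ S}

set_option maxHeartbeats 1000000 in
/-- local acyclicity relative to a locally constant sheaf of torsion prime to the residue characteristics -/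
theorem bijective_HpullVia_of_locallyConstant (hf : EtRest.IsLocallyAcyclic f) (F : EtCoh.Ab X)
    (hF : EtRest.IsLocallyConstant F)
    (htor : ∀ (Ω : Type u) [Field Ω] [IsSepClosed Ω] (ξ : Spec (CommRingCat.of Ω) ⟶ X)
      (s : (EtCoh.stalk ξ).obj F), ∃ n : ℕ, 0 < n ∧ (n : Ω) ≠ 0 ∧ n • s = 0)
    (x : X) (RS RX : Type u) [CommRing RS] [CommRing RX] [IsLocalRing RS] [IsLocalRing RX]
    [Algebra (S.presheaf.stalk (f.base x)) RS] [IsLocalHom (algebraMap (S.presheaf.stalk (f.base x)) RS)]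
    [Hensel.IsStrictHenselization (S.presheaf.stalk (f.base x)) RS]
    [Algebra (X.presheaf.stalk x) RX] [IsLocalHom (algebraMap (X.presheaf.stalk x) RX)]
    [hRX : Hensel.IsStrictHenselization (X.presheaf.stalk x) RX]
    [Algebra RS RX] [IsLocalHom (algebraMap RS RX)]
    (hc : (algebraMap RS RX).comp (algebraMap (S.presheaf.stalk (f.base x)) RS) =
      (algebraMap (X.presheaf.stalk x) RX).comp (f.stalkMap x).hom)
    (Ω : Type u) [Field Ω] [IsSepClosed Ω] [Algebra RS Ω]
    [PreservesFiniteLimits (EtCoh.pull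
      (Spec.map (CommRingCat.ofHom (algebraMap RX (EtRest.vcRing RS RX Ω)))))] (q : ℕ) :
    Function.Bijective (EtCore.HpullVia
      (Spec.map (CommRingCat.ofHom (algebraMap RX (EtRest.vcRing RS RX Ω)))) (Hens2.specOf X x RX)
      (Spec.map (CommRingCat.ofHom (algebraMap RX (EtRest.vcRing RS RX Ω))) ≫ Hens2.specOf X x RX)
      rfl F q) := by
  let U := Spec (CommRingCat.of (EtRest.vcRing RS RX Ω))
  let b : U ⟶ Spec (CommRingCat.of RX) := Spec.map (CommRingCat.ofHom (algebraMap RX (EtRest.vcRing RS RX Ω)))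
  let π := Hens2.specOf X x RX
  let G := (EtCoh.pull π).obj F
  haveI := hRX.henselian
  haveI := hRX.isSepClosure.sep_closed
  refine (iff_of_eq (congrArg Function.Bijective (funext fun ξ => HpullVia_eq b π (b ≫ π) rfl F q ξ))).2 ?_
  haveI : IsIso (appOf (θPull b π (b ≫ π) rfl) F) := by delta appOf; infer_instance
  refine (EtBC.hmap_bijective (appOf (θPull b π (b ≫ π) rfl) F) q).comp ?_
  let L : Set ℕ := {ℓ | ℓ.Prime ∧ (ℓ : X.residueField x) ≠ 0}
  obtain ⟨p₀, hp₀, hp₀'⟩ : ∃ p : ℕ, p.Prime ∧ (p : X.residueField x) ≠ 0 := by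
    by_cases h2 : ((2 : ℕ) : X.residueField x) = 0
    · refine ⟨3, Nat.prime_three, fun h3 => one_ne_zero (α := X.residueField x) ?_⟩
      rwa [show (3 : ℕ) = 2 + 1 from rfl, Nat.cast_add, h2, zero_add, Nat.cast_one] at h3
    · exact ⟨2, Nat.prime_two, h2⟩
  have hac : ∀ k, EtAcyc.IsAcyclicSchemeN L k U := fun k =>
    isAcyclicSchemeN_of_primes L ⟨p₀, ⟨hp₀, hp₀'⟩, hp₀⟩ (fun ℓ hℓ _ => hf x RS RX hc Ω ℓ hℓ.2) k
  haveI := (hac 0).1
  haveI := (hac 0).2.1
  haveI : ConnectedSpace (Spec (CommRingCat.of RX)) := GenAcyc.connectedSpace_specLocal RX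
  obtain ⟨A, ⟨e⟩⟩ := GenAcyc.exists_iso_const hF RX π
  obtain _ | p := q
  · exact UnitStalk.Hpull_bijective_of_iso b e.inv 0 (GenAcyc.const_Hpull_zero_bijective b A)
  · haveI h1 : Subsingleton (EtCoh.H (Spec (CommRingCat.of RX)) G (p + 1)) := S0073.result RX G (p + 1) (by omega)
    let hη : U ⟶ Spec (CommRingCat.of Ω) :=
      Spec.map (CommRingCat.ofHom (Algebra.TensorProduct.includeRight : Ω →ₐ[RS] RX ⊗[RS] Ω).toRingHom)
    haveI : PreservesFiniteLimits (EtCoh.pull hη) := pull_preservesFiniteLimits _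
    let CK := (constantSheaf (Spec (CommRingCat.of Ω)).smallEtaleTopology AddCommGrpCat.{u + 1}).obj A
    have htor' : EtAcyc.IsLTorsion L CK := GenAcyc.isLTorsion_const _ A fun a => by
      obtain ⟨s, hs⟩ := torsion_of_stalk π F A e (resPt RX (RingHom.id (ResidueField RX))) a
      obtain ⟨m, hm0, hmΩ, hms⟩ := htor (ResidueField RX) (resPt RX (RingHom.id (ResidueField RX)) ≫ π) s
      refine ⟨m, ⟨hm0, fun ℓ hℓ hd => ⟨hℓ, fun h0 => hmΩ ?_⟩⟩, hs m hms⟩
      obtain ⟨c, rfl⟩ := hd
      have h1 : ((ℓ : ℕ) : ResidueField RX) = 0 :=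
        (map_natCast (ResidueField.map (algebraMap (X.presheaf.stalk x) RX)) ℓ).symm.trans
          ((congrArg _ h0).trans (map_zero _))
      rw [Nat.cast_mul, h1, zero_mul]
    have hgood := AcycCover.goodCoeff_of_isAcyclicScheme hη L (hac (p + 1)) CK htor'
    haveI := hgood.2 (p + 1) (by omega) le_rfl
    let e' : (EtCoh.pull b).obj G ≅ (EtCoh.pull hη).obj CK :=
      (EtCoh.pull b).mapIso e.symm ≪≫ (EtCore.pullConstIso b).app A ≪≫ ((EtCore.pullConstIso hη).app A).symm
    haveI h2 : Subsingleton (EtCoh.H U ((EtCoh.pull b).obj G) (p + 1)) :=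
      (EtBC.hmap_bijective e'.hom (p + 1)).1.subsingleton
    exact ⟨fun z z' _ => Subsingleton.elim (α := EtCoh.H (Spec (CommRingCat.of RX)) G (p + 1)) z z', fun z => ⟨0,
      Subsingleton.elim (α := EtCoh.H U ((EtCoh.pull b).obj G) (p + 1)) _ z⟩⟩

end Groth.Agent.LARest12
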