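import Groth.Prelude.Def_EtRestW
import Groth.Agent.EtBC.ViaTools
import Mathlib.AlgebraicGeometry.Pullbacks

/-!
# Varieties of vanishing cycles under cartesian squares of strict localizations
-/

set_option autoImplicit false
set_option linter.style.haveILetI false
set_option backward.isDefEq.respectTransparency false
set_option backward.isDefEq.respectTransparency.types false

universe u

open CategoryTheory CategoryTheory.Limits AlgebraicGeometry Opposite TensorProduct

namespace Groth.Agent.LARest12

open Groth.Agent.EtFound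

/-- The conclusion defining local acyclicity, for one scheme and one integer. -/
def VcAcyclic (U : Scheme.{u}) (n : ℕ) : Prop :=
  (∀ q : ℕ, 0 < q → Subsingleton (EtCoh.H U (EtCoh.const U (ZMod n)) q)) ∧
    Nonempty (EtCoh.H U (EtCoh.const U (ZMod n)) 0 ≃+ ZMod n)

/-- Cohomology of constant sheaves along an isomorphism. -/
theorem nonempty_H_const_equiv {U V : Scheme.{u}} (e : U ≅ V) (M : Type) [AddCommGroup M] (q : ℕ) :
    Nonempty (EtCoh.H V (EtCoh.const V M) q ≃+ EtCoh.H U (EtCoh.const U M) q) := by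
  haveI : PreservesFiniteLimits (EtCoh.pull e.hom) := pull_preservesFiniteLimits _
  exact ⟨AddEquiv.ofBijective
    (((EtCoh.HF U q).map (EtCore.pullConst e.hom M).hom).hom.comp (EtCore.Hpull e.hom (EtCoh.const V M) q))
    (EtBC.Hpull_hmap_bijective e.hom (EtCoh.const V M) (EtCore.pullConst e.hom M).hom q)⟩

/-- `VcAcyclic` is invariant under isomorphisms. -/
theorem vcAcyclic_of_iso {U V : Scheme.{u}} (e : U ≅ V) {n : ℕ} (h : VcAcyclic V n) : VcAcyclic U n := by
  refine ⟨fun q hq => ?_, ?_⟩
  · haveI := h.1 q hq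
    obtain ⟨a⟩ := nonempty_H_const_equiv e (ZMod n) q
    exact a.symm.toEquiv.subsingleton
  · obtain ⟨a⟩ := nonempty_H_const_equiv e (ZMod n) 0
    obtain ⟨b⟩ := h.2
    exact ⟨a.symm.trans b⟩

/-- Along a cartesian square of spectra the fibres over a field are the same. -/
theorem nonempty_vc_iso {A B C D Ω : Type u} [CommRing A] [CommRing B] [CommRing C] [CommRing D] [CommRing Ω]
    [Algebra B D] [Algebra B Ω] [Algebra A C] [Algebra A Ω] (φ : A →+* B) (ψ : C →+* D)
    (hτ : algebraMap A Ω = (algebraMap B Ω).comp φ)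
    (sq : IsPullback (Spec.map (CommRingCat.ofHom ψ)) (Spec.map (CommRingCat.ofHom (algebraMap B D)))
      (Spec.map (CommRingCat.ofHom (algebraMap A C))) (Spec.map (CommRingCat.ofHom φ))) :
    Nonempty (Spec (CommRingCat.of (D ⊗[B] Ω)) ≅ Spec (CommRingCat.of (C ⊗[A] Ω))) := by
  have h := (IsPullback.of_hasPullback (Spec.map (CommRingCat.ofHom (algebraMap B D)))
    (Spec.map (CommRingCat.ofHom (algebraMap B Ω)))).paste_horiz sq
  have e : Spec.map (CommRingCat.ofHom (algebraMap B Ω)) ≫ Spec.map (CommRingCat.ofHom φ) =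
      Spec.map (CommRingCat.ofHom (algebraMap A Ω)) := by
    rw [hτ, CommRingCat.ofHom_comp, Spec.map_comp]
  rw [e] at h
  exact ⟨(pullbackSpecIso B D Ω).symm ≪≫ h.isoPullback ≪≫ pullbackSpecIso A C Ω⟩

end Groth.Agent.LARest12
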